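import Mathlib

/-!
# Permutations and permutation groups given by packed natural numbers

A permutation of `Fin n`, `n ≤ 16`, is packed with four bits per point; a list of them with a
fixed width per entry. All the checks are `Bool`-valued and only multiply pointwise.
-/

set_option autoImplicit false

namespace Cfsg.Agent.AltSections.Code

/-- Entry `i` of an array with `w` bits per entry. -/
def arr (A w i : ℕ) : ℕ := (A >>> (w * i)) &&& (2 ^ w - 1)

/-- Image of the point `i`. -/
def ap (c i : ℕ) : ℕ := (c >>> (4 * i)) &&& 15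

/-- Evaluate the argument first. -/
def force : ℕ → (ℕ → Bool) → Bool
  | 0, P => P 0
  | k + 1, P => P (k + 1)

theorem force_eq (x : ℕ) (P : ℕ → Bool) : force x P = P x := by cases x <;> rfl

/-- The set of the images of the first points, as bits. -/
def imgMask (c : ℕ) : ℕ → ℕ
  | 0 => 0
  | k + 1 => 2 ^ ap c k ||| imgMask c k

theorem testBit_imgMask (c : ℕ) : ∀ k j, (imgMask c k).testBit j = true ↔ ∃ i, i < k ∧ ap c i = j := by
  intro k
  induction k with
  | zero => intro j; simp [imgMask]
  | succ k ih =>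
    intro j
    simp only [imgMask, Nat.testBit_or, Bool.or_eq_true, ih, Nat.testBit_two_pow, decide_eq_true_eq]
    constructor
    · rintro (h | ⟨i, hi, h⟩)
      · exact ⟨k, k.lt_succ_self, h⟩
      · exact ⟨i, Nat.lt_succ_of_lt hi, h⟩
    · rintro ⟨i, hi, h⟩
      rcases Nat.lt_succ_iff_lt_or_eq.1 hi with hlt | rfl
      · exact Or.inr ⟨i, hlt, h⟩
      · exact Or.inl h

/-- The first `n` points have all of them as images. -/
def valid (n c : ℕ) : Bool := force c fun c => imgMask c n == 2 ^ n - 1

theorem valid_spec {n c : ℕ} (h : valid n c = true) :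
    (∀ i : Fin n, ap c i < n) ∧ ∀ a b : Fin n, ap c a = ap c b → a = b := by
  simp only [valid, force_eq, beq_iff_eq] at h
  have hlt : ∀ i : Fin n, ap c i < n := fun i => by
    have := (testBit_imgMask c n (ap c i)).2 ⟨i, i.2, rfl⟩
    rw [h, Nat.testBit_two_pow_sub_one, decide_eq_true_eq] at this
    exact this
  have hs : Function.Surjective fun i : Fin n => (⟨ap c i, hlt i⟩ : Fin n) := fun j => by
    have : (imgMask c n).testBit j = true := by
      rw [h, Nat.testBit_two_pow_sub_one, decide_eq_true_eq]; exact j.2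
    obtain ⟨i, hi, e⟩ := (testBit_imgMask c n j).1 this
    exact ⟨⟨i, hi⟩, Fin.ext e⟩
  exact ⟨hlt, fun a b hab => Finite.injective_iff_surjective.2 hs (Fin.ext hab)⟩

noncomputable def toFun (n c : ℕ) (i : Fin n) : Fin n :=
  if h : ap c i < n then ⟨ap c i, h⟩ else i

open Classical in
noncomputable def toPerm (n c : ℕ) : Equiv.Perm (Fin n) :=
  if h : Function.Bijective (toFun n c) then Equiv.ofBijective _ h else 1

theorem lt_of_valid {n c : ℕ} (h : valid n c = true) (i : Fin n) : ap c i < n :=
  (valid_spec h).1 i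

theorem toPerm_apply {n c : ℕ} (h : valid n c = true) (i : Fin n) :
    (toPerm n c i : ℕ) = ap c i := by
  have hlt := lt_of_valid h
  have hb : Function.Bijective (toFun n c) := by
    rw [Function.Bijective, ← Finite.injective_iff_surjective, and_self]
    intro a b hab
    simp only [toFun, dif_pos (hlt _), Fin.ext_iff] at hab
    exact (valid_spec h).2 a b hab
  rw [toPerm, dif_pos hb, Equiv.ofBijective_apply, toFun, dif_pos (hlt _)]

/-- A bounded universal quantifier. -/
def allLt : ℕ → (ℕ → Bool) → Bool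
  | 0, _ => true
  | k + 1, P => P k && allLt k P

theorem allLt_iff {k : ℕ} {P : ℕ → Bool} : allLt k P = true ↔ ∀ i, i < k → P i = true := by
  induction k with
  | zero => simp [allLt]
  | succ k ih =>
    simp only [allLt, Bool.and_eq_true, ih]
    exact ⟨fun h i hi => (Nat.lt_succ_iff_lt_or_eq.1 hi).elim (h.2 i) (fun e => e ▸ h.1),
      fun h => ⟨h k k.lt_succ_self, fun i hi => h i (Nat.lt_succ_of_lt hi)⟩⟩

/-- `b ∘ a` and `d ∘ c` agree. -/
def sq (n b a d c : ℕ) : Bool :=
  force b fun b => force a fun a => force d fun d => force c fun c =>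
    valid n b && valid n a && valid n d && valid n c &&
      allLt n fun i => ap b (ap a i) == ap d (ap c i)

theorem sq_spec {n b a d c : ℕ} (h : sq n b a d c = true) :
    toPerm n b * toPerm n a = toPerm n d * toPerm n c := by
  simp only [sq, force_eq, Bool.and_eq_true, allLt_iff, beq_iff_eq] at h
  obtain ⟨⟨⟨⟨hb, ha⟩, hd⟩, hc⟩, hall⟩ := h
  refine Equiv.ext fun i => Fin.ext ?_
  rw [Equiv.Perm.mul_apply, Equiv.Perm.mul_apply, toPerm_apply hb, toPerm_apply ha,
    toPerm_apply hd, toPerm_apply hc]
  exact hall i i.2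

/-- `b ∘ a` and `d ∘ c` agree, validity being checked elsewhere. -/
def sqFast (n b a d c : ℕ) : Bool :=
  force b fun b => force a fun a => force d fun d => force c fun c =>
    allLt n fun i => ap b (ap a i) == ap d (ap c i)

theorem sqFast_spec {n b a d c : ℕ} (hb : valid n b = true) (ha : valid n a = true)
    (hd : valid n d = true) (hc : valid n c = true) (h : sqFast n b a d c = true) :
    toPerm n b * toPerm n a = toPerm n d * toPerm n c := by
  refine sq_spec ?_
  simp only [sqFast, allLt_iff, force_eq] at h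
  simp only [sq, force_eq, hb, ha, hd, hc, Bool.true_and, allLt_iff]
  exact h

/-- `c = b ∘ a`. -/
def eqMul (n c b a : ℕ) : Bool :=
  force b fun b => force a fun a => force c fun c =>
    valid n b && valid n a && valid n c && allLt n fun i => ap c i == ap b (ap a i)

theorem eqMul_spec {n c b a : ℕ} (h : eqMul n c b a = true) :
    toPerm n c = toPerm n b * toPerm n a := by
  simp only [eqMul, force_eq, Bool.and_eq_true, allLt_iff, beq_iff_eq] at h
  obtain ⟨⟨⟨hb, ha⟩, hc⟩, hall⟩ := h
  refine Equiv.ext fun i => Fin.ext ?_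
  rw [Equiv.Perm.mul_apply, toPerm_apply hb, toPerm_apply ha, toPerm_apply hc]
  exact hall i i.2

/-- `c` is the identity. -/
def eqOne (n c : ℕ) : Bool := valid n c && (List.range n).all fun i => ap c i == i

theorem eqOne_spec {n c : ℕ} (h : eqOne n c = true) : toPerm n c = 1 := by
  simp only [eqOne, Bool.and_eq_true, List.all_eq_true, List.mem_range, beq_iff_eq] at h
  refine Equiv.ext fun i => Fin.ext ?_
  rw [toPerm_apply h.1, Equiv.Perm.one_apply]
  exact h.2 i i.2

/-- `c ^ a = 1`. -/
def powOne (n c a : ℕ) : Bool :=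
  valid n c && (List.range n).all fun i => Nat.repeat (ap c) a i == i

theorem repeat_eq {n c : ℕ} (h : valid n c = true) (a : ℕ) (i : Fin n) :
    Nat.repeat (ap c) a i = ((toPerm n c ^ a) i : ℕ) := by
  induction a with
  | zero => rfl
  | succ a ih =>
    rw [pow_succ', Equiv.Perm.mul_apply, toPerm_apply h, ← ih]
    rfl

theorem powOne_spec {n c a : ℕ} (h : powOne n c a = true) : toPerm n c ^ a = 1 := by
  simp only [powOne, Bool.and_eq_true, List.all_eq_true, List.mem_range, beq_iff_eq] at h
  refine Equiv.ext fun i => Fin.ext ?_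
  rw [← repeat_eq h.1]
  exact h.2 i i.2

/-- The group generated by a list of codes. -/
noncomputable def span (n : ℕ) (l : List ℕ) : Subgroup (Equiv.Perm (Fin n)) :=
  Subgroup.closure {x | ∃ c ∈ l, toPerm n c = x}

theorem mem_span {n : ℕ} {l : List ℕ} {c : ℕ} (h : c ∈ l) : toPerm n c ∈ span n l :=
  Subgroup.subset_closure ⟨c, h, rfl⟩

/-- A group: generators, size, elements in order of discovery, parents and generator numbers. -/
structure GData where
  gens : List ℕ
  N : ℕ
  el : ℕ
  par : ℕ
  gen : ℕ

namespace GData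

variable (D : GData)

def code (i : ℕ) : ℕ := arr D.el 40 i

def check (n : ℕ) : Bool :=
  0 < D.N && eqOne n (D.code 0) && allLt (D.N - 1) fun j =>
    arr D.par 16 (j + 1) < j + 1 && arr D.gen 4 (j + 1) < D.gens.length &&
      eqMul n (D.code (j + 1)) (D.gens.getD (arr D.gen 4 (j + 1)) 0) (D.code (arr D.par 16 (j + 1)))

variable {D}

theorem code_mem {n : ℕ} (h : D.check n = true) :
    ∀ i, i < D.N → toPerm n (D.code i) ∈ span n D.gens := by
  simp only [check, Bool.and_eq_true, allLt_iff, decide_eq_true_eq] at h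
  intro i
  induction i using Nat.strong_induction_on with
  | _ i ih =>
    intro hi
    rcases Nat.eq_zero_or_pos i with rfl | hpos
    · rw [eqOne_spec h.1.2]; exact one_mem _
    · obtain ⟨j, rfl⟩ : ∃ j, i = j + 1 := ⟨i - 1, by omega⟩
      obtain ⟨⟨h1, h2⟩, h3⟩ := h.2 j (by omega)
      rw [eqMul_spec h3]
      refine mul_mem (mem_span ?_) (ih _ h1 (by omega))
      rw [List.getD_eq_getElem _ _ h2]
      exact List.getElem_mem h2

theorem code_valid {n : ℕ} (h : D.check n = true) {i : ℕ} (hi : i < D.N) :
    valid n (D.code i) = true := by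
  simp only [check, Bool.and_eq_true, allLt_iff, decide_eq_true_eq] at h
  rcases Nat.eq_zero_or_pos i with rfl | hpos
  · have := h.1.2
    simp only [eqOne, Bool.and_eq_true] at this
    exact this.1
  · obtain ⟨j, rfl⟩ : ∃ j, i = j + 1 := ⟨i - 1, by omega⟩
    have := (h.2 j (by omega)).2
    simp only [eqMul, force_eq, Bool.and_eq_true] at this
    exact this.1.2

theorem code_valid' {n : ℕ} (h : D.check n = true) {i : ℕ} (hi : i < D.N) :
    valid n (D.code i) = true := code_valid h hi

end GData

/-- Two elements of pairwise coprime orders with product of coprime order generate a perfect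
group. -/
theorem not_isSolvable_of_triple {G : Type*} [Group G] {H : Subgroup G} {x y : G} {a b c : ℕ}
    (hxH : x ∈ H) (hyH : y ∈ H) (hx : x ^ a = 1) (hy : y ^ b = 1) (hxy : (x * y) ^ c = 1)
    (hab : Nat.Coprime a b) (hc : Nat.Coprime c (a * b)) (hx1 : x ≠ 1) :
    ¬ Group.IsSolvable H := by
  intro hs
  set K := Subgroup.closure ({x, y} : Set G) with hKdef
  have hxK : x ∈ K := Subgroup.subset_closure (by simp)
  have hyK : y ∈ K := Subgroup.subset_closure (by simp)
  haveI hH' : Group.IsSolvable H := hs
  have hKH : K ≤ H := (Subgroup.closure_le H).2 (by simp [Set.insert_subset_iff, hxH, hyH])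
  haveI : Group.IsSolvable K :=
    Group.isSolvable_of_isSolvable_injective (f := Subgroup.inclusion hKH) (Subgroup.inclusion_injective hKH)
  let q : K →* Abelianization K := Abelianization.of
  set X : Abelianization K := q ⟨x, hxK⟩ with hXdef
  set Y : Abelianization K := q ⟨y, hyK⟩ with hYdef
  have hX : X ^ a = 1 := by
    rw [hXdef, ← map_pow, show (⟨x, hxK⟩ : K) ^ a = 1 from Subtype.ext (by simpa using hx), map_one]
  have hY : Y ^ b = 1 := by
    rw [hYdef, ← map_pow, show (⟨y, hyK⟩ : K) ^ b = 1 from Subtype.ext (by simpa using hy), map_one]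
  have hXYc : (X * Y) ^ c = 1 := by
    rw [hXdef, hYdef, ← map_mul, ← map_pow,
      show ((⟨x, hxK⟩ : K) * ⟨y, hyK⟩) ^ c = 1 from Subtype.ext (by simpa using hxy), map_one]
  have hXYab : (X * Y) ^ (a * b) = 1 := by
    rw [mul_pow, pow_mul, hX, one_pow, one_mul, mul_comm a b, pow_mul, hY, one_pow]
  have hXY : X * Y = 1 := by
    have := Nat.dvd_gcd (orderOf_dvd_of_pow_eq_one hXYc) (orderOf_dvd_of_pow_eq_one hXYab)
    rw [hc] at this
    exact orderOf_eq_one_iff.1 (Nat.dvd_one.1 this)
  have hX1 : X = 1 := by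
    have hXb : X ^ b = 1 := by
      rw [eq_inv_of_mul_eq_one_left hXY, inv_pow, hY, inv_one]
    have := Nat.dvd_gcd (orderOf_dvd_of_pow_eq_one hX) (orderOf_dvd_of_pow_eq_one hXb)
    rw [hab] at this
    exact orderOf_eq_one_iff.1 (Nat.dvd_one.1 this)
  have hY1 : Y = 1 := by simpa [hX1] using hXY
  have hle : K ≤ (commutator K).map K.subtype := by
    refine (Subgroup.closure_le _).2 ?_
    rintro z (rfl | hz)
    · exact ⟨⟨z, hxK⟩, (QuotientGroup.eq_one_iff _).1 hX1, rfl⟩
    · rw [Set.mem_singleton_iff] at hz; subst hz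
      exact ⟨⟨z, hyK⟩, (QuotientGroup.eq_one_iff _).1 hY1, rfl⟩
  have htop : commutator K = ⊤ := by
    refine eq_top_iff.2 fun z _ => ?_
    obtain ⟨w, hw, hwz⟩ := hle z.2
    rwa [← Subtype.ext hwz]
  haveI : Nontrivial K := ⟨⟨⟨x, hxK⟩, 1, fun h => hx1 (congrArg Subtype.val h)⟩⟩
  exact (Group.IsSolvable.commutator_lt_top_of_nontrivial K).ne htop

end Cfsg.Agent.AltSections.Code
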