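import Cfsg.Agent.Lib.AltSections.LiftTrace
import Cfsg.Agent.Lib.AltSections.Code

/-!
# Certificates on coset spaces that fixed vectors vanish
-/

set_option autoImplicit false

namespace Cfsg.Agent.AltSections.Cert

open Matrix Cfsg.Agent.AltSections.Code

variable {p n m : ℕ}

/-- No non-zero vector is fixed by a non-solvable subgroup. -/
def NoFix (ρ : Equiv.Perm (Fin n) →* Matrix (Fin m) (Fin m) (ZMod p)) : Prop :=
  ∀ H : Subgroup (Equiv.Perm (Fin n)), ¬ Group.IsSolvable H →
    ∀ v : Fin m → ZMod p, (∀ h ∈ H, ρ h *ᵥ v = v) → v = 0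

variable (ρ : Equiv.Perm (Fin n) →* Matrix (Fin m) (Fin m) (ZMod p))

/-- No non-zero vector is fixed by `S`. -/
def Zero (S : Subgroup (Equiv.Perm (Fin n))) : Prop :=
  ∀ v : Fin m → ZMod p, (∀ h ∈ S, ρ h *ᵥ v = v) → v = 0

theorem NoFix.zero {ρ : Equiv.Perm (Fin n) →* Matrix (Fin m) (Fin m) (ZMod p)} (h : NoFix ρ)
    {S : Subgroup (Equiv.Perm (Fin n))} (hS : ¬ Group.IsSolvable S) : Zero ρ S := h S hS

variable {ρ}

theorem Zero.mono {S T : Subgroup (Equiv.Perm (Fin n))} (h : Zero ρ S) (hST : S ≤ T) : Zero ρ T :=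
  fun v hv => h v fun x hx => hv x (hST hx)

theorem Zero.conj {S : Subgroup (Equiv.Perm (Fin n))} (h : Zero ρ S) (g : Equiv.Perm (Fin n)) :
    Zero ρ (S.map (MulAut.conj g).toMonoidHom) := fun v hv => by
  have h0 : ρ g⁻¹ *ᵥ v = 0 := h _ fun x hx => by
    have := hv _ ⟨x, hx, rfl⟩
    simp only [MulEquiv.coe_toMonoidHom, MulAut.conj_apply, map_mul] at this
    have := congrArg (ρ g⁻¹ *ᵥ ·) this
    simp only [Matrix.mulVec_mulVec, ← mul_assoc, ← map_mul, inv_mul_cancel, map_one, one_mul] at this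
    rw [Matrix.mulVec_mulVec]
    simpa [map_mul] using this
  have := congrArg (ρ g *ᵥ ·) h0
  simpa [Matrix.mulVec_mulVec, ← map_mul] using this

theorem fixed_span {l : List ℕ} {v : Fin m → ZMod p}
    (h : ∀ c ∈ l, ρ (toPerm n c) *ᵥ v = v) : ∀ g ∈ span n l, ρ g *ᵥ v = v := by
  intro g hg
  induction hg using Subgroup.closure_induction with
  | mem x hx => obtain ⟨c, hc, rfl⟩ := hx; exact h c hc
  | one => simp
  | mul a b _ _ ha hb => rw [map_mul, ← Matrix.mulVec_mulVec, hb, ha]
  | inv a _ ha =>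
    conv_lhs => rw [← ha]
    rw [Matrix.mulVec_mulVec, ← map_mul, inv_mul_cancel, map_one, Matrix.one_mulVec]

/-- `x, y` generate a non-solvable group: `x ^ a = y ^ b = (x y) ^ c = 1`. -/
def triple (n x y z a b c : ℕ) : Bool :=
  eqMul n z x y && powOne n x a && powOne n y b && powOne n z c &&
    ((List.range n).any fun i => ap x i != i) && a.gcd b == 1 && c.gcd (a * b) == 1

theorem not_isSolvable_span {l : List ℕ} {x y z a b c : ℕ} (hx : x ∈ l) (hy : y ∈ l)
    (h : triple n x y z a b c = true) : ¬ Group.IsSolvable (span n l) := by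
  simp only [triple, Bool.and_eq_true, List.any_eq_true, List.mem_range, beq_iff_eq,
    bne_iff_ne] at h
  obtain ⟨⟨⟨⟨⟨⟨hz, ha⟩, hb⟩, hc⟩, i, hi, hne⟩, hab⟩, hcab⟩ := h
  have hv : valid n x = true := by
    simp only [powOne, Bool.and_eq_true] at ha
    exact ha.1
  refine not_isSolvable_of_triple (mem_span hx) (mem_span hy) (powOne_spec ha) (powOne_spec hb)
    (by rw [← eqMul_spec hz]; exact powOne_spec hc) hab hcab fun h1 => hne ?_
  have := toPerm_apply hv ⟨i, hi⟩
  rw [h1] at this
  simpa using this.symm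

/-- Coset representatives of a group and the tables of some acting elements. -/
structure CData where
  S : GData
  acts : List ℕ
  N : ℕ
  rep : ℕ
  tb : List ℕ
  si : List ℕ

namespace CData

variable (D : CData)

def act (k : ℕ) : ℕ := D.acts.getD k 0
def code (i : ℕ) : ℕ := arr D.rep 40 i
def t (k i : ℕ) : ℕ := arr (D.tb.getD k 0) 12 i

def checkBase (n : ℕ) : Bool :=
  D.S.check n && (0 < D.N && eqOne n (D.code 0)) && allLt D.N fun i => valid n (D.code i)

def checkAct (n k : ℕ) : Bool :=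
  let T := D.tb.getD k 0
  let U := D.si.getD k 0
  let a := D.acts.getD k 0
  valid n a && allLt D.N fun i =>
    let j := arr T 12 i
    let s := arr U 12 i
    j < D.N && s < D.S.N && sqFast n a (D.code i) (D.code j) (D.S.code s)

def check (n : ℕ) : Bool := D.checkBase n && allLt D.acts.length (D.checkAct n)

/-- The translate of `v` to the coset `i`. -/
noncomputable def f (ρ : Equiv.Perm (Fin n) →* Matrix (Fin m) (Fin m) (ZMod p))
    (v : Fin m → ZMod p) (i : ℕ) : Fin m → ZMod p := ρ (toPerm n (D.code i)) *ᵥ v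

variable {D}

theorem f_zero (h : D.check n = true) (v : Fin m → ZMod p) : D.f ρ v 0 = v := by
  simp only [check, checkBase, Bool.and_eq_true] at h
  rw [f, eqOne_spec h.1.1.2.2, map_one, Matrix.one_mulVec]

theorem check_of (hb : D.checkBase n = true)
    (ha : ∀ k, k < D.acts.length → D.checkAct n k = true) : D.check n = true := by
  simp only [check, Bool.and_eq_true, allLt_iff]
  exact ⟨hb, ha⟩

theorem pos (h : D.check n = true) : 0 < D.N := by
  simp only [check, checkBase, Bool.and_eq_true, decide_eq_true_eq] at h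
  exact h.1.1.2.1

theorem act_f (h : D.check n = true) {v : Fin m → ZMod p}
    (hv : ∀ x ∈ span n D.S.gens, ρ x *ᵥ v = v) {k i : ℕ} (hk : k < D.acts.length) (hi : i < D.N) :
    ρ (toPerm n (D.act k)) *ᵥ D.f ρ v i = D.f ρ v (D.t k i) ∧ D.t k i < D.N := by
  simp only [check, checkBase, checkAct, Bool.and_eq_true, allLt_iff, decide_eq_true_eq] at h
  obtain ⟨⟨⟨hS, -⟩, hval⟩, hact⟩ := h
  obtain ⟨ha, hall⟩ := hact k hk
  obtain ⟨⟨h1, h2⟩, h3⟩ := hall i hi
  refine ⟨?_, h1⟩
  have e : toPerm n (D.act k) * toPerm n (D.code i) =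
      toPerm n (D.code (D.t k i)) * toPerm n (D.S.code (arr (D.si.getD k 0) 12 i)) :=
    sqFast_spec ha (hval i hi) (hval _ h1) (GData.code_valid' hS h2) h3
  rw [f, f, Matrix.mulVec_mulVec, ← map_mul, e, map_mul, ← Matrix.mulVec_mulVec,
    hv _ (GData.code_mem hS _ h2)]

/-- The value of a list of cosets. -/
noncomputable def val (D : CData) (ρ : Equiv.Perm (Fin n) →* Matrix (Fin m) (Fin m) (ZMod p))
    (v : Fin m → ZMod p) (L : List ℕ) : Fin m → ZMod p := (L.map (D.f ρ v)).sum

def inRange (D : CData) (L : List ℕ) : Bool := L.all fun i => i < D.N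

def image (D : CData) (k : ℕ) (L : List ℕ) : List ℕ :=
  let T := D.tb.getD k 0
  L.map fun i => arr T 12 i

theorem act_val (h : D.check n = true) {v : Fin m → ZMod p}
    (hv : ∀ x ∈ span n D.S.gens, ρ x *ᵥ v = v) {k : ℕ} (hk : k < D.acts.length) :
    ∀ {L : List ℕ}, D.inRange L = true →
      ρ (toPerm n (D.act k)) *ᵥ D.val ρ v L = D.val ρ v (D.image k L) := by
  intro L
  induction L with
  | nil => simp [val, image]
  | cons i L ih =>
    intro hL
    simp only [inRange, List.all_cons, Bool.and_eq_true, decide_eq_true_eq] at hL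
    have := ih hL.2
    simp only [val, image, List.map_cons, List.sum_cons, Matrix.mulVec_add] at this ⊢
    rw [this, (act_f h hv hk hL.1).1]
    rfl

end CData

end Cfsg.Agent.AltSections.Cert
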