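import Cfsg.Agent.Lib.AltSections.Code

/-!
# Enumerated permutation groups
-/

set_option autoImplicit false

namespace Cfsg.Agent.AltSections.Code

open scoped Pointwise

/-- The images of the points as one number. -/
def key (n c : ℕ) : ℕ := c % 16 ^ n

theorem key_congr {n a b : ℕ} (ha : valid n a = true) (hb : valid n b = true)
    (h : toPerm n a = toPerm n b) : key n a = key n b := by
  have e : ∀ i, i < n → ap a i = ap b i := fun i hi => by
    rw [← toPerm_apply ha ⟨i, hi⟩, ← toPerm_apply hb ⟨i, hi⟩, h]
  have : ∀ i, i ≤ n → a % 16 ^ i = b % 16 ^ i := by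
    intro i
    induction i with
    | zero => simp [Nat.mod_one]
    | succ i ih =>
      intro hi
      have hap : ∀ c, ap c i = c / 16 ^ i % 16 := fun c => by
        rw [ap, show 15 = 2 ^ 4 - 1 from rfl, Nat.and_two_pow_sub_one_eq_mod, Nat.shiftRight_eq_div_pow,
          pow_mul]
        norm_num
      rw [Nat.mod_pow_succ, Nat.mod_pow_succ, ih (by omega), ← hap, ← hap, e i (by omega)]
  exact this n le_rfl

namespace GData

variable (D : GData)

/-- Closed under the generators, and listed without repetition. -/
def complete (n : ℕ) (tbl : List ℕ) (ord : ℕ) : Bool :=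
  D.check n && ((List.range D.gens.length).all fun k =>
    let T := tbl.getD k 0
    let g := D.gens.getD k 0
    allLt D.N fun i => arr T 16 i < D.N && eqMul n (D.code (arr T 16 i)) g (D.code i)) &&
  (allLt D.N fun j => arr ord 16 j < D.N &&
    ((D.N ≤ j + 1) || key n (D.code (arr ord 16 j)) < key n (D.code (arr ord 16 (j + 1)))))

variable {D}

variable {n : ℕ} {tbl : List ℕ} {ord : ℕ}

theorem range_eq (h : D.complete n tbl ord = true) :
    Set.range (fun i : Fin D.N => toPerm n (D.code i)) = (span n D.gens : Set (Equiv.Perm (Fin n))) := by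
  simp only [complete, allLt_iff, Bool.and_eq_true, List.all_eq_true, List.mem_range, decide_eq_true_eq] at h
  obtain ⟨⟨hc, hclosed⟩, -⟩ := h
  have hmem := code_mem hc
  apply Set.Subset.antisymm
  · rintro _ ⟨i, rfl⟩; exact hmem i i.2
  · have h1 : 0 < D.N ∧ toPerm n (D.code 0) = 1 := by
      simp only [check, Bool.and_eq_true, decide_eq_true_eq] at hc
      exact ⟨hc.1.1, eqOne_spec hc.1.2⟩
    set R := Set.range (fun i : Fin D.N => toPerm n (D.code i)) with hR
    have hclose : ∀ c ∈ D.gens, ∀ x ∈ R, toPerm n c * x ∈ R := by
      rintro c hc' _ ⟨i, rfl⟩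
      obtain ⟨k, hk, rfl⟩ := List.getElem_of_mem hc'
      obtain ⟨hj, he⟩ := hclosed k hk i i.2
      refine ⟨⟨_, hj⟩, ?_⟩
      rw [List.getD_eq_getElem _ _ hk] at he
      exact eqMul_spec he
    have hone : (1 : Equiv.Perm (Fin n)) ∈ R := ⟨⟨0, h1.1⟩, h1.2⟩
    intro g hg
    have : ∀ x ∈ R, g * x ∈ R := by
      induction hg using Subgroup.closure_induction with
      | mem y hy => obtain ⟨c, hc', rfl⟩ := hy; exact hclose c hc'
      | one => simp
      | mul a b _ _ ha hb => intro x hx; rw [mul_assoc]; exact ha _ (hb x hx)
      | inv a _ ha =>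
        intro x hx
        have hfin : R.Finite := Set.toFinite R
        have himg : (fun y => a * y) '' R = R := by
          refine Set.eq_of_subset_of_ncard_le ?_ ?_ hfin
          · rintro _ ⟨y, hy, rfl⟩; exact ha y hy
          · rw [Set.ncard_image_of_injective R (mul_right_injective a)]
        rw [← himg] at hx
        obtain ⟨y, hy, rfl⟩ := hx
        rwa [inv_mul_cancel_left]
    simpa using this 1 hone

theorem injective (h : D.complete n tbl ord = true) :
    Function.Injective (fun i : Fin D.N => toPerm n (D.code i)) := by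
  simp only [complete, allLt_iff, Bool.and_eq_true, List.all_eq_true, List.mem_range, decide_eq_true_eq,
    Bool.or_eq_true] at h
  obtain ⟨⟨hc, -⟩, hord⟩ := h
  let σ : Fin D.N → Fin D.N := fun j => ⟨arr ord 16 j, (hord j j.2).1⟩
  let K : Fin D.N → ℕ := fun j => key n (D.code (σ j))
  have hK : ∀ a b : ℕ, a < b → (hb : b < D.N) →
      key n (D.code (arr ord 16 a)) < key n (D.code (arr ord 16 b)) := by
    intro a b hab hb
    induction b with
    | zero => omega
    | succ b ih =>
      have hstep : key n (D.code (arr ord 16 b)) < key n (D.code (arr ord 16 (b + 1))) :=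
        ((hord b (by omega)).2).resolve_left (by omega)
      rcases Nat.lt_or_ge a b with hl | hg
      · exact lt_trans (ih hl (by omega)) hstep
      · obtain rfl : a = b := by omega
        exact hstep
  have hKinj : Function.Injective K := by
    intro a b hab
    rcases lt_trichotomy (a : ℕ) b with hl | he | hl
    · exact absurd hab (hK a b hl b.2).ne
    · exact Fin.ext he
    · exact absurd hab.symm (hK b a hl a.2).ne
  have hσ : Function.Injective σ := fun a b hab => hKinj (by simp only [K, hab])
  intro a b hab
  obtain ⟨a', rfl⟩ := (Finite.injective_iff_surjective.1 hσ) a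
  obtain ⟨b', rfl⟩ := (Finite.injective_iff_surjective.1 hσ) b
  exact congrArg σ (hKinj (key_congr (code_valid hc (σ a').2) (code_valid hc (σ b').2) hab))

theorem natCard_span (h : D.complete n tbl ord = true) : Nat.card (span n D.gens) = D.N := by
  have := Nat.card_range_of_injective (injective h)
  rw [range_eq h] at this
  simpa using this

theorem sum_span {M : Type*} [AddCommMonoid M] (h : D.complete n tbl ord = true)
    [Fintype (span n D.gens)] (f : Equiv.Perm (Fin n) → M) :
    ∑ q : span n D.gens, f q = ∑ i : Fin D.N, f (toPerm n (D.code i)) := by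
  classical
  let e : Fin D.N → span n D.gens := fun i =>
    ⟨toPerm n (D.code i), (Set.ext_iff.1 (range_eq h) _).1 ⟨i, rfl⟩⟩
  have he : Function.Bijective e := by
    refine ⟨fun a b hab => injective h (congrArg Subtype.val hab), fun q => ?_⟩
    obtain ⟨i, hi⟩ := (Set.ext_iff.1 (range_eq h) _).2 q.2
    exact ⟨i, Subtype.ext hi⟩
  exact (Fintype.sum_bijective e he _ _ fun i => rfl).symm

end GData

end Cfsg.Agent.AltSections.Code
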