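import Cfsg.Agent.Lib.AltSections.Cert
import Cfsg.Agent.Lib.AltSections.Enum

/-!
# Certificates in odd characteristic

Dimensions of fixed spaces of subgroups of order prime to `p` as linear forms in the traces at
class representatives, and norm maps between fixed spaces that are injective.
-/

set_option autoImplicit false

namespace Cfsg.Agent.AltSections.CertFive

open Matrix Cfsg.Agent.AltSections.Code Cfsg.Agent.AltSections.Cert
open Cfsg.Agent.AltSections.LiftTrace

variable {p k m n : ℕ} [hp : Fact p.Prime] [NeZero k]
  (ρ : Equiv.Perm (Fin n) →* Matrix (Fin m) (Fin m) (ZMod p))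

/-- A group with, for each element, a class number and a conjugating permutation. -/
structure FData where
  S : GData
  tbl : List ℕ
  ord : ℕ
  typ : ℕ
  sig : ℕ

def FData.cls (D : FData) (i : ℕ) : ℕ := arr D.typ 4 i

def FData.check (D : FData) (n p : ℕ) (reps : List ℕ) : Bool :=
  D.S.complete n D.tbl D.ord && D.S.N % p != 0 && allLt D.S.N fun i =>
    D.cls i < reps.length &&
      sq n (arr D.sig 40 i) (D.S.code i) (reps.getD (D.cls i) 0) (arr D.sig 40 i)

def FData.counts (D : FData) (T : ℕ) : List ℕ :=
  (List.range T).map fun t => ((List.range D.S.N).map D.cls).count t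

theorem not_dvd_order {S : Subgroup (Equiv.Perm (Fin n))} (hS : ¬ p ∣ Nat.card S)
    {g : Equiv.Perm (Fin n)} (hg : g ∈ S) : ¬ p ∣ orderOf g :=
  fun h => hS (h.trans (S.orderOf_dvd_natCard hg))

variable (k) in
/-- The fixed-space dimension times the order, as a form in the traces at the representatives. -/
theorem order_mul_finrank {D : FData} {reps : List ℕ} (h : D.check n p reps = true) :
    (D.S.N : ZMod (p ^ k)) *
        (Module.finrank (ZMod p) (fixedSub ρ (span n D.S.gens)) : ZMod (p ^ k)) =
      ∑ t : Fin reps.length,
        (((D.counts reps.length).getD t 0 : ℕ) : ZMod (p ^ k)) *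
          tau ρ k (toPerm n (reps.getD t 0)) := by
  classical
  simp only [FData.check, Bool.and_eq_true, allLt_iff, decide_eq_true_eq,
    bne_iff_ne] at h
  obtain ⟨⟨hc, hN⟩, hall⟩ := h
  have hcard := GData.natCard_span hc
  have hnd : ¬ p ∣ Nat.card (span n D.S.gens) := by
    rw [hcard]; exact fun hd => hN (Nat.mod_eq_zero_of_dvd hd)
  letI : Fintype (span n D.S.gens) := Fintype.ofFinite _
  have e := sum_tau (k := k) ρ (span n D.S.gens) hnd
  rw [hcard] at e
  rw [← e, GData.sum_span hc (tau ρ k)]
  have hterm : ∀ i : Fin D.S.N, tau ρ k (toPerm n (D.S.code i)) =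
      tau ρ k (toPerm n (reps.getD (D.cls i) 0)) := by
    intro i
    have hmem : toPerm n (D.S.code i) ∈ span n D.S.gens :=
      (Set.ext_iff.1 (GData.range_eq hc) _).1 ⟨i, rfl⟩
    have := eq_mul_inv_of_mul_eq (sq_spec (hall i i.2).2).symm
    rw [this, tau_conj ρ (not_dvd_order hnd hmem)]
  rw [Finset.sum_congr rfl fun i _ => hterm i]
  have hmaps : ∀ i : Fin D.S.N, D.cls i < reps.length := fun i => (hall i i.2).1
  rw [← Finset.sum_fiberwise Finset.univ (fun i : Fin D.S.N => (⟨D.cls i, hmaps i⟩ : Fin reps.length))]
  refine Finset.sum_congr rfl fun t _ => ?_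
  rw [Finset.sum_congr rfl (g := fun _ => tau ρ k (toPerm n (reps.getD t 0))) fun i hi => by
    rw [← (Finset.mem_filter.1 hi).2]]
  rw [Finset.sum_const, nsmul_eq_mul]
  congr 2
  rw [FData.counts, List.getD_eq_getElem _ _ (by simp), List.getElem_map, List.getElem_range]
  have : ((List.range D.S.N).map D.cls) = List.map (fun i : Fin D.S.N => D.cls (i : ℕ)) (List.finRange D.S.N) := by
    rw [← List.map_coe_finRange_eq_range, List.map_map]; rfl
  rw [this, List.count_eq_countP, List.countP_map, List.countP_eq_length_filter,
    ← List.toFinset_card_of_nodup ((List.nodup_finRange _).filter _)]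
  congr 1
  ext i
  simp [Fin.ext_iff]

/-- A step: a translate of the row with the given position, or a row invariant under a fixer. -/
inductive Step where
  | tr (k par : ℕ) (L : List ℕ)
  | fix (F : ℕ) (L : List ℕ)

def sameRow (D : CData) (L L' : List ℕ) : Bool :=
  (List.range D.N).all fun i => L.count i == L'.count i

def okTr (D : CData) (st : List (List ℕ)) (k par : ℕ) (L : List ℕ) : Bool :=
  k < D.acts.length && (par < st.length && sameRow D (D.image k (st.getD par [])) L)

def okFix (D : CData) (fixers : List (List ℕ)) (F : ℕ) (L : List ℕ) : Bool :=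
  F < fixers.length && (fixers.getD F []).all fun k => k < D.acts.length && sameRow D (D.image k L) L

def run (D : CData) (fixers : List (List ℕ)) : List Step → List (List ℕ) → Option (List (List ℕ))
  | [], st => some st
  | .tr k par L :: rest, st =>
    if D.inRange L && okTr D st k par L then run D fixers rest (st ++ [L]) else none
  | .fix F L :: rest, st =>
    if D.inRange L && okFix D fixers F L then run D fixers rest (st ++ [L]) else none

def total : List (List ℕ) → List ℕ → ℕ → ℕ
  | L :: st, c :: cs, i => c * L.count i + total st cs i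
  | _, _, _ => 0

/-- The row `O` is invariant under the elements of `T`, and if it vanishes, so does the base. -/
def checkInj (D : CData) (n p : ℕ) (fixers : List (List ℕ)) (T : List ℕ) (O : List ℕ)
    (steps : List Step) (coefs : List ℕ) : Bool :=
  D.check n && D.inRange O && (T.all fun k => k < D.acts.length && sameRow D (D.image k O) O) &&
    match run D fixers steps [O] with
    | some st => (List.range D.N).all fun i => total st coefs i % p == if i = 0 then 1 else 0
    | none => false

variable {D : CData}

theorem val_eq (v : Fin m → ZMod p) : ∀ {L : List ℕ}, D.inRange L = true →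
    D.val ρ v L = ∑ i ∈ Finset.range D.N, L.count i • D.f ρ v i := by
  intro L
  induction L with
  | nil => simp [CData.val]
  | cons a L ih =>
    intro hL
    simp only [CData.inRange, List.all_cons, Bool.and_eq_true, decide_eq_true_eq] at hL
    have h2 := ih hL.2
    rw [CData.val, List.map_cons, List.sum_cons]
    change D.f ρ v a + D.val ρ v L = _
    rw [h2]
    simp only [List.count_cons, beq_iff_eq, add_smul, Finset.sum_add_distrib]
    rw [add_comm]
    congr 1
    rw [Finset.sum_eq_single a]
    · simp
    · intro j _ hj; simp [Ne.symm hj]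
    · exact fun h => absurd (Finset.mem_range.2 hL.1) h

theorem val_congr (v : Fin m → ZMod p) {L L' : List ℕ} (hL : D.inRange L = true)
    (hL' : D.inRange L' = true) (h : sameRow D L L' = true) : D.val ρ v L = D.val ρ v L' := by
  simp only [sameRow, List.all_eq_true, List.mem_range, beq_iff_eq] at h
  rw [val_eq ρ v hL, val_eq ρ v hL']
  exact Finset.sum_congr rfl fun i hi => by rw [h i (Finset.mem_range.1 hi)]

variable {ρ}

theorem image_inRange (h : D.check n = true) {v : Fin m → ZMod p}
    (hv : ∀ x ∈ span n D.S.gens, ρ x *ᵥ v = v) {j : ℕ}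
    (hk : j < D.acts.length) {L : List ℕ} (hL : D.inRange L = true) :
    D.inRange (D.image j L) = true := by
  simp only [CData.inRange, List.all_eq_true, decide_eq_true_eq, CData.image, List.mem_map] at hL ⊢
  rintro _ ⟨i, hi, rfl⟩
  exact (CData.act_f h hv hk (hL i hi)).2

theorem fixed_row (h : D.check n = true) {v : Fin m → ZMod p}
    (hv : ∀ x ∈ span n D.S.gens, ρ x *ᵥ v = v) {F : List ℕ} {L : List ℕ} (hL : D.inRange L = true)
    (hF : ∀ j ∈ F, j < D.acts.length ∧ sameRow D (D.image j L) L = true) :
    ∀ g ∈ span n (F.map D.act), ρ g *ᵥ D.val ρ v L = D.val ρ v L :=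
  fixed_span fun c hc => by
    obtain ⟨j, hj, rfl⟩ := List.mem_map.1 hc
    obtain ⟨h1, h2⟩ := hF j hj
    rw [CData.act_val h hv h1 hL]
    exact val_congr ρ v (image_inRange h hv h1 hL) hL h2

def Killed (ρ : Equiv.Perm (Fin n) →* Matrix (Fin m) (Fin m) (ZMod p)) (v : Fin m → ZMod p)
    (D : CData) (st : List (List ℕ)) : Prop :=
  ∀ L ∈ st, D.inRange L = true ∧ D.val ρ v L = 0

theorem run_sound (h : D.check n = true) {v : Fin m → ZMod p}
    (hv : ∀ x ∈ span n D.S.gens, ρ x *ᵥ v = v) {fixers : List (List ℕ)}
    (hfix : ∀ F ∈ fixers, Zero ρ (span n (F.map D.act))) :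
    ∀ (steps : List Step) (st st' : List (List ℕ)), Killed ρ v D st →
      run D fixers steps st = some st' → Killed ρ v D st' := by
  intro steps
  induction steps with
  | nil => intro st st' hK hr; simp only [run, Option.some.injEq] at hr; exact hr ▸ hK
  | cons s rest ih =>
    intro st st' hK hr
    cases s with
    | tr j par L =>
      simp only [run] at hr
      split at hr
      case isFalse => exact absurd hr (by simp)
      case isTrue hc =>
        refine ih _ _ ?_ hr
        simp only [okTr, Bool.and_eq_true, decide_eq_true_eq] at hc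
        obtain ⟨hL, hk, hpar, hm⟩ := hc
        intro r hr'
        rcases List.mem_append.1 hr' with hr' | hr'
        · exact hK r hr'
        · rw [List.mem_singleton] at hr'
          subst hr'
          refine ⟨hL, ?_⟩
          obtain ⟨h1, h3⟩ := hK (st.getD par [])
            (by rw [List.getD_eq_getElem _ _ hpar]; exact List.getElem_mem hpar)
          rw [← val_congr ρ v (image_inRange h hv hk h1) hL hm, ← CData.act_val h hv hk h1, h3,
            Matrix.mulVec_zero]
    | fix F L =>
      simp only [run] at hr
      split at hr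
      case isFalse => exact absurd hr (by simp)
      case isTrue hc =>
        refine ih _ _ ?_ hr
        simp only [okFix, Bool.and_eq_true, decide_eq_true_eq, List.all_eq_true] at hc
        obtain ⟨hL, hF, hall⟩ := hc
        intro r hr'
        rcases List.mem_append.1 hr' with hr' | hr'
        · exact hK r hr'
        · rw [List.mem_singleton] at hr'
          subst hr'
          exact ⟨hL, hfix (fixers.getD F [])
            (by rw [List.getD_eq_getElem _ _ hF]; exact List.getElem_mem hF) _
            (fixed_row h hv hL hall)⟩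

theorem total_smul (v : Fin m → ZMod p) : ∀ {st : List (List ℕ)}, Killed ρ v D st →
    ∀ cs : List ℕ, ∑ i ∈ Finset.range D.N, total st cs i • D.f ρ v i = 0 := by
  intro st
  induction st with
  | nil => intro _ cs; simp [total]
  | cons L st ih =>
    intro hK cs
    cases cs with
    | nil => simp [total]
    | cons c cs =>
      obtain ⟨h1, h2⟩ := hK L (by simp)
      have := ih (fun x hx => hK x (by simp [hx])) cs
      simp only [total, add_smul, Finset.sum_add_distrib, this, add_zero, mul_smul,
        ← Finset.smul_sum, ← val_eq ρ v h1, h2, smul_zero]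

theorem finrank_le_of_checkInj {fixers : List (List ℕ)} {T O : List ℕ} {steps : List Step}
    {coefs : List ℕ} (hc : checkInj D n p fixers T O steps coefs = true)
    (hfix : ∀ F ∈ fixers, Zero ρ (span n (F.map D.act))) :
    Module.finrank (ZMod p) (fixedSub ρ (span n D.S.gens)) ≤
      Module.finrank (ZMod p) (fixedSub ρ (span n (T.map D.act))) := by
  simp only [checkInj, Bool.and_eq_true, List.all_eq_true, decide_eq_true_eq] at hc
  obtain ⟨⟨⟨hD, hO⟩, hT⟩, hm⟩ := hc
  let φ : (fixedSub ρ (span n D.S.gens)) →ₗ[ZMod p] (fixedSub ρ (span n (T.map D.act))) :=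
    { toFun := fun v => ⟨D.val ρ (v : Fin m → ZMod p) O, fixed_row hD v.2 hO hT⟩
      map_add' := fun v w => Subtype.ext (by
        change D.val ρ ((v : Fin m → ZMod p) + w) O = D.val ρ v O + D.val ρ w O
        rw [val_eq ρ _ hO, val_eq ρ _ hO, val_eq ρ _ hO, ← Finset.sum_add_distrib]
        exact Finset.sum_congr rfl fun i _ => by rw [CData.f, Matrix.mulVec_add, smul_add]; rfl)
      map_smul' := fun c v => Subtype.ext (by
        change D.val ρ (c • (v : Fin m → ZMod p)) O = c • D.val ρ v O
        rw [val_eq ρ _ hO, val_eq ρ _ hO, Finset.smul_sum]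
        exact Finset.sum_congr rfl fun i _ => by rw [CData.f, Matrix.mulVec_smul, smul_comm]; rfl) }
  refine LinearMap.finrank_le_finrank_of_injective (f := φ)
    ((injective_iff_map_eq_zero φ).2 fun v hv => ?_)
  have h0 : D.val ρ (v : Fin m → ZMod p) O = 0 := congrArg Subtype.val hv
  split at hm
  case h_2 => exact absurd hm (by simp)
  case h_1 st hst =>
    have hK := run_sound hD v.2 hfix steps [O] st (by simpa [Killed] using ⟨hO, h0⟩) hst
    simp only [List.all_eq_true, List.mem_range, beq_iff_eq] at hm
    have e := total_smul (v : Fin m → ZMod p) hK coefs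
    rw [Finset.sum_eq_single 0] at e
    · rw [← Nat.cast_smul_eq_nsmul (ZMod p), ← ZMod.natCast_mod, hm 0 (CData.pos hD), if_pos rfl,
        Nat.cast_one, one_smul, CData.f_zero hD] at e
      exact Subtype.ext e
    · intro i hi hi0
      rw [← Nat.cast_smul_eq_nsmul (ZMod p), ← ZMod.natCast_mod, hm i (Finset.mem_range.1 hi),
        if_neg hi0, Nat.cast_zero, zero_smul]
    · exact fun h => absurd (Finset.mem_range.2 (CData.pos hD)) h

end Cfsg.Agent.AltSections.CertFive
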