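import Cfsg.Agent.Lib.AltSections.Cert

/-!
# Certificates over the field with two elements

A list of cosets is a row. A row is killed when it is a translate of a killed row, or when its
value is fixed by a fixer, a group known to fix no non-zero vector, modulo killed rows. If the
base coset is a sum of killed rows, nothing non-zero is fixed.
-/

set_option autoImplicit false

namespace Cfsg.Agent.AltSections.CertTwo

open Matrix Cfsg.Agent.AltSections.Code Cfsg.Agent.AltSections.Cert

/-- A step: a translate of the row with the given position (newest first), or a fixed row. -/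
inductive Step where
  | tr (k par : ℕ) (L : List ℕ)
  | fix (F : ℕ) (sels : List ℕ) (L : List ℕ)

def mask : List ℕ → ℕ
  | [] => 0
  | i :: L => 2 ^ i ^^^ mask L

def sel : List (List ℕ × ℕ) → ℕ → ℕ
  | [], _ => 0
  | r :: rs, s => (if s % 2 = 1 then r.2 else 0) ^^^ sel rs (s / 2)

def okTr (D : CData) (st : List (List ℕ × ℕ)) (k par : ℕ) (L : List ℕ) : Bool :=
  k < D.acts.length && mask L == mask (D.image k (st.getD par ([], 0)).1)

def okFix (D : CData) (fixers : List (List ℕ)) (st : List (List ℕ × ℕ)) (F : ℕ) (sels : List ℕ)
    (L : List ℕ) : Bool :=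
  F < fixers.length &&
    (List.range (fixers.getD F []).length).all fun j =>
      let k := (fixers.getD F []).getD j 0
      k < D.acts.length && mask (D.image k L) ^^^ mask L == sel st (sels.getD j 0)

def run (D : CData) (fixers : List (List ℕ)) :
    List Step → List (List ℕ × ℕ) → Option (List (List ℕ × ℕ))
  | [], st => some st
  | .tr k par L :: rest, st =>
    if D.inRange L && okTr D st k par L then run D fixers rest ((L, mask L) :: st) else none
  | .fix F sels L :: rest, st =>
    if D.inRange L && okFix D fixers st F sels L then run D fixers rest ((L, mask L) :: st) else none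

/-- The check of the steps. -/
def check (D : CData) (fixers : List (List ℕ)) (steps : List Step) (last : ℕ) : Bool :=
  match run D fixers steps [] with
    | some st => sel st last == 1
    | none => false

variable {n m : ℕ} {D : CData} (ρ : Equiv.Perm (Fin n) →* Matrix (Fin m) (Fin m) (ZMod 2))
  (v : Fin m → ZMod 2)

noncomputable def evalMask (D : CData) (M : ℕ) : Fin m → ZMod 2 :=
  ∑ i ∈ Finset.range D.N, if M.testBit i then D.f ρ v i else 0

theorem two_smul_zero (x : Fin m → ZMod 2) : x + x = 0 :=
  funext fun j => CharTwo.add_self_eq_zero (x j)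

theorem evalMask_zero : evalMask ρ v D 0 = 0 := by simp [evalMask]

theorem evalMask_xor (a b : ℕ) :
    evalMask ρ v D (a ^^^ b) = evalMask ρ v D a + evalMask ρ v D b := by
  simp only [evalMask, ← Finset.sum_add_distrib]
  refine Finset.sum_congr rfl fun i _ => ?_
  rw [Nat.testBit_xor]
  cases a.testBit i <;> cases b.testBit i <;> simp [two_smul_zero]

theorem evalMask_pow {i : ℕ} (hi : i < D.N) : evalMask ρ v D (2 ^ i) = D.f ρ v i := by
  rw [evalMask, Finset.sum_eq_single i]
  · simp [Nat.testBit_two_pow]
  · intro j _ hj
    simp [Nat.testBit_two_pow, Ne.symm hj]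
  · exact fun h => absurd (Finset.mem_range.2 hi) h

theorem evalMask_mask : ∀ {L : List ℕ}, D.inRange L = true →
    evalMask ρ v D (mask L) = D.val ρ v L := by
  intro L
  induction L with
  | nil => simp [mask, evalMask_zero, CData.val]
  | cons i L ih =>
    intro hL
    simp only [CData.inRange, List.all_cons, Bool.and_eq_true, decide_eq_true_eq] at hL
    rw [mask, evalMask_xor, evalMask_pow ρ v hL.1, ih hL.2]
    rfl

/-- All rows in the state are killed. -/
def Killed (D : CData) (st : List (List ℕ × ℕ)) : Prop :=
  ∀ r ∈ st, D.inRange r.1 = true ∧ r.2 = mask r.1 ∧ D.val ρ v r.1 = 0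

theorem evalMask_sel : ∀ {st : List (List ℕ × ℕ)}, Killed ρ v D st →
    ∀ s, evalMask ρ v D (sel st s) = 0 := by
  intro st
  induction st with
  | nil => exact fun _ s => evalMask_zero ρ v
  | cons r rs ih =>
    intro h s
    obtain ⟨h1, h2, h3⟩ := h r (by simp)
    rw [sel, evalMask_xor, ih (fun x hx => h x (by simp [hx])), add_zero]
    split
    · rw [h2, evalMask_mask ρ v h1, h3]
    · exact evalMask_zero ρ v

theorem image_inRange (h : D.check n = true) (hv : ∀ x ∈ span n D.S.gens, ρ x *ᵥ v = v) {k : ℕ}
    (hk : k < D.acts.length) {L : List ℕ} (hL : D.inRange L = true) :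
    D.inRange (D.image k L) = true := by
  simp only [CData.inRange, List.all_eq_true, decide_eq_true_eq, CData.image, List.mem_map] at hL ⊢
  rintro _ ⟨i, hi, rfl⟩
  exact (CData.act_f h hv hk (hL i hi)).2

theorem run_sound (h : D.check n = true) (hv : ∀ x ∈ span n D.S.gens, ρ x *ᵥ v = v)
    {fixers : List (List ℕ)} (hfix : ∀ F ∈ fixers, Zero ρ (span n (F.map D.act))) :
    ∀ (steps : List Step) (st st' : List (List ℕ × ℕ)), Killed ρ v D st →
      run D fixers steps st = some st' → Killed ρ v D st' := by
  intro steps
  induction steps with
  | nil => intro st st' hK hr; simp only [run, Option.some.injEq] at hr; exact hr ▸ hK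
  | cons s rest ih =>
    intro st st' hK hr
    cases s with
    | tr k par L =>
      simp only [run] at hr
      split at hr
      case isFalse => exact absurd hr (by simp)
      case isTrue hc =>
        refine ih _ _ ?_ hr
        simp only [okTr, Bool.and_eq_true, decide_eq_true_eq, beq_iff_eq] at hc
        obtain ⟨hL, hk, hm⟩ := hc
        intro r hr'
        rcases List.mem_cons.1 hr' with rfl | hr'
        · refine ⟨hL, rfl, ?_⟩
          obtain ⟨h1, h3⟩ : D.inRange (st.getD par ([], 0)).1 = true ∧
              D.val ρ v (st.getD par ([], 0)).1 = 0 := by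
            rcases Nat.lt_or_ge par st.length with hpar | hpar
            · rw [List.getD_eq_getElem _ _ hpar]
              exact ⟨(hK _ (List.getElem_mem hpar)).1, (hK _ (List.getElem_mem hpar)).2.2⟩
            · rw [List.getD_eq_default _ _ hpar]
              simp [CData.inRange, CData.val]
          rw [← evalMask_mask ρ v hL, hm, evalMask_mask ρ v (image_inRange ρ v h hv hk h1),
            ← CData.act_val h hv hk h1, h3, Matrix.mulVec_zero]
        · exact hK r hr'
    | fix F sels L =>
      simp only [run] at hr
      split at hr
      case isFalse => exact absurd hr (by simp)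
      case isTrue hc =>
        refine ih _ _ ?_ hr
        simp only [okFix, Bool.and_eq_true, decide_eq_true_eq, beq_iff_eq, List.all_eq_true,
          List.mem_range] at hc
        obtain ⟨hL, hF, hall⟩ := hc
        intro r hr'
        rcases List.mem_cons.1 hr' with rfl | hr'
        · refine ⟨hL, rfl, hfix (fixers.getD F [])
            (by rw [List.getD_eq_getElem _ _ hF]; exact List.getElem_mem hF) _
            (fixed_span fun c hc => ?_)⟩
          obtain ⟨k, hk, rfl⟩ := List.mem_map.1 hc
          obtain ⟨j, hj, rfl⟩ := List.getElem_of_mem hk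
          obtain ⟨hka, hm⟩ := hall j hj
          rw [List.getD_eq_getElem _ _ hj] at hka hm
          have e := congrArg (evalMask ρ v D) hm
          rw [evalMask_xor, evalMask_mask ρ v (image_inRange ρ v h hv hka hL),
            evalMask_mask ρ v hL, evalMask_sel ρ v hK, ← CData.act_val h hv hka hL] at e
          exact (eq_neg_of_add_eq_zero_left e).trans
            (neg_eq_of_add_eq_zero_left (two_smul_zero _))
        · exact hK r hr'

theorem check_sound {fixers : List (List ℕ)} {steps : List Step} {last : ℕ}
    (hD : D.check n = true) (hc : check D fixers steps last = true)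
    (hfix : ∀ F ∈ fixers, Zero ρ (span n (F.map D.act))) : Zero ρ (span n D.S.gens) := fun v hv => by
  have hm := hc
  simp only [check] at hm
  split at hm
  case h_2 => exact absurd hm (by simp)
  case h_1 st hst =>
    have hK := run_sound ρ v hD hv hfix steps [] st (by simp [Killed]) hst
    rw [beq_iff_eq] at hm
    have e := evalMask_sel ρ v hK last
    rw [hm, show (1 : ℕ) = 2 ^ 0 from rfl, evalMask_pow ρ v (CData.pos hD), CData.f_zero hD] at e
    exact e

end Cfsg.Agent.AltSections.CertTwo
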