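import Mathlib
import Cfsg.Agent.Lib.CN.Basic
import Cfsg.Agent.Lib.Coprime.Action

/-!
# Solvable centralizers of noncentral `p`-elements and alternating quotients

A `p`-element of the quotient commuting with a non-solvable subgroup lifts to a noncentral
`p`-element with non-solvable centralizer, unless some `p`-element of the kernel is noncentral.
-/

set_option autoImplicit false

namespace Cfsg.Agent.AltSections.Reduction

open Subgroup
open scoped commutatorElement Pointwise

variable {G : Type*} [Group G] {A : Type*} [Group A] {p : ℕ}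

/-- An element of `p`-power order. -/
def PElt (p : ℕ) (x : G) : Prop := ∃ k : ℕ, orderOf x = p ^ k

/-- Centralizers of noncentral `p`-elements are solvable. -/
def Hyp (p : ℕ) (G : Type*) [Group G] : Prop :=
  ∀ x : G, x ∉ Subgroup.center G → (∃ k : ℕ, orderOf x = p ^ k) →
    Group.IsSolvable (Subgroup.centralizer ({x} : Set G))

theorem pElt_of_mem [Fact p.Prime] {P : Subgroup G} (hP : IsPGroup p P) {x : G} (hx : x ∈ P) :
    PElt p x := by
  obtain ⟨k, hk⟩ := IsPGroup.iff_orderOf.1 hP ⟨x, hx⟩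
  exact ⟨k, by rw [← hk, Subgroup.orderOf_mk]⟩

theorem solvable_le {H K : Subgroup G} (hle : H ≤ K) (h : Group.IsSolvable K) : Group.IsSolvable H :=
  haveI := h
  Group.isSolvable_of_isSolvable_injective (Subgroup.inclusion_injective hle)

theorem solvable_ext {B : Type*} [Group B] (φ : G →* B) (hk : Group.IsSolvable φ.ker)
    (hB : Group.IsSolvable B) : Group.IsSolvable G :=
  haveI := hk; haveI := hB
  Group.isSolvable_of_ker_le_range φ.ker.subtype φ (by rw [Subgroup.range_subtype])

theorem Hyp.subgroup (h : Hyp p G) (K : Subgroup G) : Hyp p K := fun x hx hp => by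
  have hxG : (x : G) ∉ Subgroup.center G := fun hc =>
    hx (Subgroup.mem_center_iff.2 fun g => Subtype.ext (Subgroup.mem_center_iff.1 hc g))
  obtain ⟨k, hk⟩ := hp
  haveI := h x hxG ⟨k, by rw [Subgroup.orderOf_coe, hk]⟩
  let ι : Subgroup.centralizer ({x} : Set K) →* Subgroup.centralizer ({(x : G)} : Set G) :=
    (K.subtype.comp (Subgroup.subtype _)).codRestrict _ fun y =>
      Subgroup.mem_centralizer_singleton_iff.2
        (congrArg Subtype.val (Subgroup.mem_centralizer_singleton_iff.1 y.2))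
  exact Group.isSolvable_of_isSolvable_injective (f := ι) fun a b hab => by
    have e : ((ι a : Subgroup.centralizer ({(x : G)} : Set G)) : G) = (ι b : G) :=
      congrArg Subtype.val hab
    exact Subtype.ext (Subtype.ext e)

/-- In a finite group one inclusion puts an element in the normalizer. -/
theorem mem_normalizer_of_conj [Finite G] {P : Subgroup G} {g : G} (h : ∀ z ∈ P, g * z * g⁻¹ ∈ P) :
    g ∈ Subgroup.normalizer (P : Set G) := by
  have e : P.map (MulAut.conj g).toMonoidHom = P := by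
    refine Subgroup.eq_of_le_of_card_ge ?_ ?_
    · rintro _ ⟨z, hz, rfl⟩; exact h z hz
    · rw [Subgroup.card_map_of_injective (MulAut.conj g).injective]
  refine Subgroup.mem_normalizer_iff.2 fun z => ⟨h z, fun hz => ?_⟩
  rw [← e] at hz
  obtain ⟨w, hw, hwz⟩ := hz
  have : w = z := (MulAut.conj g).injective hwz
  exact this ▸ hw

/-- A minimal subgroup mapping onto `A`. -/
theorem exists_minimal [Finite G] {K₀ : Subgroup G} (f₀ : K₀ →* A) (hf₀ : Function.Surjective f₀) :
    ∃ (K : Subgroup G) (f : K →* A), Function.Surjective f ∧ f.ker ≤ frattini K := by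
  obtain ⟨K, ⟨f, hf⟩, hmin⟩ := wellFounded_lt.has_min
    {K : Subgroup G | ∃ f : K →* A, Function.Surjective f} ⟨K₀, f₀, hf₀⟩
  refine ⟨K, f, hf, le_iInf fun M => le_iInf fun hM => ?_⟩
  by_contra hne
  have htop : M ⊔ f.ker = ⊤ :=
    hM.2 _ (lt_of_le_of_ne le_sup_left fun e => hne (e ▸ le_sup_right))
  have hsur : Function.Surjective (f.comp M.subtype) := fun a => by
    obtain ⟨g, rfl⟩ := hf a
    obtain ⟨x, hx, y, hy, rfl⟩ := Subgroup.mem_sup_of_normal_right.1 (htop ▸ Subgroup.mem_top g)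
    exact ⟨⟨x, hx⟩, by simp [MonoidHom.mem_ker.1 hy]⟩
  let e := M.equivMapOfInjective K.subtype K.subtype_injective
  refine hmin (M.map K.subtype) ⟨(f.comp M.subtype).comp e.symm.toMonoidHom,
    hsur.comp e.symm.surjective⟩ (lt_of_le_of_ne (Subgroup.map_subtype_le M) fun e' => hM.1 ?_)
  apply Subgroup.map_injective K.subtype_injective
  rw [e', ← MonoidHom.range_eq_map, Subgroup.range_subtype]

theorem not_solvable_comap (f : G →* A) (hf : Function.Surjective f) {H : Subgroup A}
    (hH : ¬ Group.IsSolvable H) : ¬ Group.IsSolvable (H.comap f) := fun h =>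
  haveI := h
  hH (Group.isSolvable_of_surjective (f := (f.comp (H.comap f).subtype).codRestrict H fun x => x.2)
    fun a => by
      obtain ⟨g, hg⟩ := hf a
      exact ⟨⟨g, show f g ∈ H by rw [hg]; exact a.2⟩, Subtype.ext hg⟩)

theorem not_solvable_commutator {H : Subgroup G} (h : ¬ Group.IsSolvable H) :
    ¬ Group.IsSolvable ↥⁅H, H⁆ := fun hs => by
  haveI := hs
  refine h ⟨?_⟩
  have h1 : Group.IsSolvable (commutator H) := by
    rw [← Subgroup.map_subtype_commutator] at hs
    haveI := hs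
    exact Group.isSolvable_of_isSolvable_injective
      (f := ((commutator H).equivMapOfInjective H.subtype H.subtype_injective).toMonoidHom)
      (MulEquiv.injective _)
  exact (solvable_ext (Abelianization.of (G := H))
    (by rw [Abelianization.ker_of]; exact h1)
    (Group.isSolvable_of_comm fun a b => mul_comm a b)).solvable

/-- If all commutators with `x` are central, the derived subgroup centralizes `x`. -/
theorem commutator_le_centralizer {S : Subgroup G} {x : G}
    (h : ∀ s ∈ S, ⁅s, x⁆ ∈ Subgroup.center G) :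
    ⁅S, S⁆ ≤ Subgroup.centralizer ({x} : Set G) := by
  let φ : S →* Subgroup.center G :=
    { toFun := fun s => ⟨⁅(s : G), x⁆, h s s.2⟩
      map_one' := Subtype.ext (by simp)
      map_mul' := fun a b => Subtype.ext (by
        change ⁅(a : G) * b, x⁆ = ⁅(a : G), x⁆ * ⁅(b : G), x⁆
        have hb := Subgroup.mem_center_iff.1 (h b b.2) (a : G)
        calc ⁅(a : G) * b, x⁆ = (a : G) * ⁅(b : G), x⁆ * (x * (a : G)⁻¹ * x⁻¹) := by
              simp only [commutatorElement_def, mul_inv_rev, mul_assoc, inv_mul_cancel_left]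
          _ = ⁅(b : G), x⁆ * ⁅(a : G), x⁆ := by
              rw [hb]; simp only [commutatorElement_def, mul_assoc]
          _ = ⁅(a : G), x⁆ * ⁅(b : G), x⁆ := (Subgroup.mem_center_iff.1 (h b b.2) _).symm) }
  rw [Subgroup.commutator_le]
  intro a ha b hb
  have hc : φ ⁅(⟨a, ha⟩ : S), ⟨b, hb⟩⁆ = 1 := by
    rw [map_commutatorElement, commutatorElement_eq_one_iff_mul_comm]
    exact Subtype.ext (Subgroup.mem_center_iff.1 (φ ⟨b, hb⟩).2 (φ ⟨a, ha⟩))
  exact Subgroup.mem_centralizer_singleton_iff.2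
    (commutatorElement_eq_one_iff_mul_comm.1 (congrArg Subtype.val hc))

theorem Hyp.false_of_central_commutators (h : Hyp p G) {S : Subgroup G} (hS : ¬ Group.IsSolvable S)
    {x : G} (hx : x ∉ Subgroup.center G) (hp : PElt p x)
    (hc : ∀ s ∈ S, ⁅s, x⁆ ∈ Subgroup.center G) : False :=
  not_solvable_commutator hS (solvable_le (commutator_le_centralizer hc) (h x hx hp))

section Lift

variable [Finite G] [Fact p.Prime] (f : G →* A) (hf : Function.Surjective f) (a₀ : A)
  (ha₀ : PElt p a₀)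

include hf ha₀ in
/-- Lifts of a `p`-element and of elements commuting with it to the normalizer of a `p`-group. -/
theorem exists_normalizer_lift :
    ∃ P : Subgroup G, IsPGroup p P ∧ (∃ x ∈ P, f x = a₀) ∧
      (∀ y ∈ f.ker, PElt p y → y ∈ Subgroup.normalizer (P : Set G) → y ∈ P) ∧
      ∀ a : A, Commute a a₀ → ∃ m ∈ Subgroup.normalizer (P : Set G), f m = a := by
  classical
  let Y : Subgroup G := (Subgroup.zpowers a₀).comap f
  obtain ⟨P₀⟩ := (inferInstance : Nonempty (Sylow p Y))
  let P : Subgroup G := (P₀ : Subgroup Y).map Y.subtype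
  have hP : IsPGroup p P := P₀.2.map _
  have hPY : P ≤ Y := Subgroup.map_subtype_le _
  obtain ⟨a, ha⟩ := ha₀
  -- the image of `P`
  have hsur : ∀ b ∈ Subgroup.zpowers a₀, ∃ z ∈ P, f z = b := by
    let g : Y →* Subgroup.zpowers a₀ := (f.comp Y.subtype).codRestrict _ fun y => y.2
    have hg : Function.Surjective g := fun b => by
      obtain ⟨z, hz⟩ := hf b
      exact ⟨⟨z, show f z ∈ _ by rw [hz]; exact b.2⟩, Subtype.ext hz⟩
    have hB : IsPGroup p (Subgroup.zpowers a₀) :=
      IsPGroup.of_card (n := a) (by rw [Nat.card_zpowers, ha])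
    haveI : Finite (Subgroup.zpowers a₀) := Finite.of_surjective g hg
    obtain ⟨n, hn⟩ := hB.index ((P₀ : Subgroup Y).map g)
    have h1 : ((P₀ : Subgroup Y).map g).index ∣ (P₀ : Subgroup Y).index :=
      Subgroup.index_map_dvd _ hg
    have htop : (P₀ : Subgroup Y).map g = ⊤ := by
      rw [← Subgroup.index_eq_one, hn]
      rcases Nat.eq_zero_or_pos n with rfl | hnpos
      · simp
      · exact absurd ((dvd_pow_self p hnpos.ne').trans (hn ▸ h1)) P₀.not_dvd_index
    intro b hb
    obtain ⟨z, hz, hzb⟩ : (⟨b, hb⟩ : Subgroup.zpowers a₀) ∈ (P₀ : Subgroup Y).map g := by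
      rw [htop]; trivial
    exact ⟨z, ⟨z, hz, rfl⟩, congrArg Subtype.val hzb⟩
  refine ⟨P, hP, hsur a₀ (Subgroup.mem_zpowers _), fun y hy hpy hyn => ?_, fun b hb => ?_⟩
  · -- maximality
    obtain ⟨k, hk⟩ := hpy
    have hQ : IsPGroup p ↥(P ⊔ Subgroup.zpowers y) := by
      refine IsPGroup.to_sup_of_normal_left' hP
        (IsPGroup.of_card (n := k) (by rw [Nat.card_zpowers, hk])) ?_
      exact Subgroup.zpowers_le.2 hyn
    have hyY : y ∈ Y := Subgroup.mem_comap.2 (by rw [MonoidHom.mem_ker.1 hy]; exact one_mem _)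
    have hle : P ⊔ Subgroup.zpowers y ≤ Y := sup_le hPY (Subgroup.zpowers_le.2 hyY)
    have hle' : (P₀ : Subgroup Y) ≤ (P ⊔ Subgroup.zpowers y).subgroupOf Y := fun z hz =>
      Subgroup.mem_subgroupOf.2 (le_sup_left (a := P) ⟨z, hz, rfl⟩)
    have := P₀.3 (hQ.of_equiv (Subgroup.subgroupOfEquivOfLe hle).symm) hle'
    have hy0 : (⟨y, hyY⟩ : Y) ∈ (P₀ : Subgroup Y) := by
      rw [← this]
      exact Subgroup.mem_subgroupOf.2 (le_sup_right (a := P) (Subgroup.mem_zpowers y))
    exact ⟨⟨y, hyY⟩, hy0, rfl⟩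
  · -- Frattini
    let C : Subgroup G := (Subgroup.centralizer ({a₀} : Set A)).comap f
    have hYC : Y ≤ C := fun y hy => Subgroup.mem_comap.2 (by
      obtain ⟨i, hi⟩ := Subgroup.mem_zpowers_iff.1 (Subgroup.mem_comap.1 hy)
      rw [← hi]
      exact Subgroup.mem_centralizer_singleton_iff.2 ((Commute.refl a₀).zpow_left i).eq)
    have hconj : ∀ c ∈ C, ∀ y ∈ Y, c * y * c⁻¹ ∈ Y := fun c hc y hy => by
      obtain ⟨i, hi⟩ := Subgroup.mem_zpowers_iff.1 (Subgroup.mem_comap.1 hy)
      refine Subgroup.mem_comap.2 ⟨i, ?_⟩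
      have hcx : Commute (f c) a₀ :=
        Subgroup.mem_centralizer_singleton_iff.1 (Subgroup.mem_comap.1 hc)
      change a₀ ^ i = f (c * y * c⁻¹)
      rw [map_mul, map_mul, map_inv, ← hi, (hcx.zpow_right i).eq, mul_inv_cancel_right]
    obtain ⟨c, hc⟩ := hf b
    have hcC : c ∈ C := Subgroup.mem_comap.2
      (Subgroup.mem_centralizer_singleton_iff.2 (by rw [hc]; exact hb.eq))
    -- the conjugate of `P` is a Sylow subgroup of `Y`
    let σ : MulAut Y :=
      { toFun := fun y => ⟨c * y * c⁻¹, hconj c hcC y y.2⟩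
        invFun := fun y => ⟨c⁻¹ * y * c, by
          simpa using hconj c⁻¹ (inv_mem hcC) y y.2⟩
        left_inv := fun y => Subtype.ext (by simp [mul_assoc])
        right_inv := fun y => Subtype.ext (by simp [mul_assoc])
        map_mul' := fun u v => Subtype.ext (by simp [mul_assoc]) }
    obtain ⟨y, hy⟩ := MulAction.exists_smul_eq Y (σ • P₀) P₀
    have hmem : (y : G) * c ∈ Subgroup.normalizer (P : Set G) := by
      have hy' : MulAut.conj y • σ • (P₀ : Subgroup Y) = (P₀ : Subgroup Y) :=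
        congrArg Sylow.toSubgroup hy
      have hstep : ∀ z ∈ P, (y : G) * c * z * ((y : G) * c)⁻¹ ∈ P := by
        rintro _ ⟨z, hz, rfl⟩
        have h1 : MulAut.conj y • σ • z ∈ (P₀ : Subgroup Y) := by
          rw [← hy']
          exact Subgroup.smul_mem_pointwise_smul _ _ _ (Subgroup.smul_mem_pointwise_smul _ _ _ hz)
        refine ⟨_, h1, ?_⟩
        simp [σ, mul_assoc]
      exact mem_normalizer_of_conj hstep
    obtain ⟨i, hi⟩ := Subgroup.mem_zpowers_iff.1 (Subgroup.mem_comap.1 y.2)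
    obtain ⟨z, hz, hzi⟩ := hsur (a₀ ^ i) ⟨i, rfl⟩
    refine ⟨z⁻¹ * ((y : G) * c), mul_mem (inv_mem (Subgroup.le_normalizer hz)) hmem, ?_⟩
    rw [map_mul, map_mul, map_inv, hzi, ← hi, hc, inv_mul_cancel_left]

variable (hG : Hyp p G) (hxc : a₀ ∉ Subgroup.center A) {H : Subgroup A}
  (hHs : ¬ Group.IsSolvable H) (hHc : ∀ h ∈ H, Commute h a₀)

include hf in
omit [Finite G] in
theorem lift_not_central {x : G} (hx : f x = a₀) (hxc : a₀ ∉ Subgroup.center A) :
    x ∉ Subgroup.center G := fun h => hxc (Subgroup.mem_center_iff.2 fun a => by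
  obtain ⟨g, rfl⟩ := hf a
  rw [← hx, ← map_mul, ← map_mul, Subgroup.mem_center_iff.1 h g])

include hG hxc hHs hHc hf ha₀

/-- The kernel has a noncentral `p`-element. -/
theorem exists_noncentral_kernel :
    ∃ z ∈ f.ker, PElt p z ∧ z ∉ Subgroup.center G := by
  by_contra hcon
  push Not at hcon
  obtain ⟨P, hP, ⟨x, hxP, hfx⟩, hmax, hlift⟩ := exists_normalizer_lift f hf a₀ ha₀
  set R := H.comap f ⊓ Subgroup.normalizer (P : Set G) with hR
  have hRs : ¬ Group.IsSolvable R := fun h => hHs (by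
    haveI := h
    refine Group.isSolvable_of_surjective (f := (f.comp R.subtype).codRestrict H
      fun r => (Subgroup.mem_inf.1 r.2).1) fun a => ?_
    obtain ⟨m, hm, hma⟩ := hlift a (hHc a a.2)
    exact ⟨⟨m, Subgroup.mem_inf.2 ⟨show f m ∈ H by rw [hma]; exact a.2, hm⟩⟩, Subtype.ext hma⟩)
  refine hG.false_of_central_commutators hRs (lift_not_central f hf a₀ hfx hxc)
    ((pElt_of_mem hP hxP)) fun r hr => ?_
  obtain ⟨hrH, hrN⟩ := Subgroup.mem_inf.1 hr
  have hker : ⁅r, x⁆ ∈ f.ker := by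
    rw [MonoidHom.mem_ker, map_commutatorElement, hfx, commutatorElement_eq_one_iff_mul_comm]
    exact (hHc _ hrH).eq
  have hmemP : ⁅r, x⁆ ∈ P :=
    mul_mem ((Subgroup.mem_normalizer_iff.1 hrN x).1 hxP) (inv_mem hxP)
  exact hcon _ hker (pElt_of_mem hP hmemP)

/-- A non-solvable centralizing subgroup of order prime to `p` is impossible. -/
theorem false_of_coprime [Finite A] (hH : ¬ p ∣ Nat.card H) : False := by
  obtain ⟨P, hP, ⟨x, hxP, hfx⟩, hmax, hlift⟩ := exists_normalizer_lift f hf a₀ ha₀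
  set R := H.comap f ⊓ Subgroup.normalizer (P : Set G) with hR
  let N : Subgroup R := (P ⊓ f.ker).subgroupOf R
  have hNle : P ⊓ f.ker ≤ R := le_inf
    (fun y hy => show f y ∈ H by rw [MonoidHom.mem_ker.1 hy.2]; exact one_mem _)
    (inf_le_left.trans Subgroup.le_normalizer)
  haveI : N.Normal := ⟨fun n hn r => Subgroup.mem_subgroupOf.2 (Subgroup.mem_inf.2
    ⟨(Subgroup.mem_normalizer_iff.1 (Subgroup.mem_inf.1 r.2).2 _).1
      (Subgroup.mem_inf.1 (Subgroup.mem_subgroupOf.1 hn)).1,
    f.normal_ker.conj_mem _ (Subgroup.mem_inf.1 (Subgroup.mem_subgroupOf.1 hn)).2 _⟩)⟩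
  have hNp : IsPGroup p N :=
    (hP.to_le (inf_le_left (b := f.ker))).of_equiv (Subgroup.subgroupOfEquivOfLe hNle).symm
  have hidx : ¬ p ∣ N.index := fun hd => by
    rw [Subgroup.index_eq_card] at hd
    obtain ⟨q, hq⟩ := exists_prime_orderOf_dvd_card' p hd
    obtain ⟨r, rfl⟩ := QuotientGroup.mk'_surjective N q
    have hrp : r ^ p ∈ N := by
      rw [← QuotientGroup.eq_one_iff, ← QuotientGroup.mk'_apply, map_pow]
      rw [← hq]; exact pow_orderOf_eq_one _
    have hfr : f (r : G) = 1 := by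
      set u : H := ⟨f r, (Subgroup.mem_inf.1 r.2).1⟩ with hu
      have hup : u ^ p = 1 := Subtype.ext (by
        change f (r : G) ^ p = 1
        rw [← map_pow]
        exact MonoidHom.mem_ker.1 (Subgroup.mem_inf.1 (Subgroup.mem_subgroupOf.1 hrp)).2)
      rcases (Nat.dvd_prime (Fact.out : p.Prime)).1 (orderOf_dvd_of_pow_eq_one hup) with h1 | h1
      · exact congrArg Subtype.val (orderOf_eq_one_iff.1 h1)
      · exact absurd (h1 ▸ orderOf_dvd_natCard u) hH
    have hrP : PElt p (r : G) := by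
      obtain ⟨k, hk⟩ := pElt_of_mem hP (Subgroup.mem_inf.1 (Subgroup.mem_subgroupOf.1 hrp)).1
      have : (r : G) ^ (p ^ (k + 1)) = 1 := by
        rw [pow_succ', pow_mul]
        exact (by rw [← hk]; exact pow_orderOf_eq_one _)
      obtain ⟨i, -, hi⟩ := (Nat.dvd_prime_pow Fact.out).1 (orderOf_dvd_of_pow_eq_one this)
      exact ⟨i, hi⟩
    have : r ∈ N := Subgroup.mem_subgroupOf.2 (Subgroup.mem_inf.2
      ⟨hmax _ hfr hrP (Subgroup.mem_inf.1 r.2).2, hfr⟩)
    rw [(QuotientGroup.eq_one_iff r).2 this |> fun e => (show QuotientGroup.mk' N r = 1 from e),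
      orderOf_one] at hq
    exact (Fact.out : p.Prime).ne_one hq.symm
  have hcop : (Nat.card N).Coprime N.index := by
    obtain ⟨n, hn⟩ := IsPGroup.iff_card.1 hNp
    rw [hn]
    exact ((Nat.Prime.coprime_iff_not_dvd Fact.out).2 hidx).pow_left n
  obtain ⟨K₀, hK₀⟩ := Subgroup.exists_right_complement'_of_coprime hcop
  let K := K₀.map R.subtype
  have hKR : K ≤ R := Subgroup.map_subtype_le _
  have hKcard : Nat.card K = N.index := by
    rw [Subgroup.card_subtype, ← hK₀.symm.index_eq_card]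
  have hKs : ¬ Group.IsSolvable K := fun h => hHs (by
    haveI := h
    refine Group.isSolvable_of_surjective (f := (f.comp K.subtype).codRestrict H
      fun r => (Subgroup.mem_inf.1 (hKR r.2)).1) fun a => ?_
    obtain ⟨m, hm, hma⟩ := hlift a (hHc a a.2)
    obtain ⟨⟨n, k⟩, hnk⟩ := hK₀.2 (⟨m, Subgroup.mem_inf.2
      ⟨show f m ∈ H by rw [hma]; exact a.2, hm⟩⟩ : R)
    refine ⟨⟨((k : R) : G), ⟨k, k.2, rfl⟩⟩, Subtype.ext ?_⟩
    have hn1 : f ((n : R) : G) = 1 := (Subgroup.mem_inf.1 (Subgroup.mem_subgroupOf.1 n.2)).2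
    have e := congrArg (fun z : R => f (z : G)) hnk
    simp only [Subgroup.coe_mul, map_mul, hn1, one_mul] at e
    exact e.trans hma)
  have hcop' : (Nat.card K).Coprime (Nat.card P) := by
    obtain ⟨n, hn⟩ := IsPGroup.iff_card.1 hP
    rw [hn, hKcard]
    exact (((Nat.Prime.coprime_iff_not_dvd Fact.out).2 hidx).pow_left n).symm
  have hKN : K ≤ Subgroup.normalizer (P : Set G) := hKR.trans inf_le_right
  obtain ⟨c, hc, hxc'⟩ := Cfsg.Agent.Coprime.exists_fixed_mod (A := K) (K := P) (N := P ⊓ f.ker) hcop'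
    (Or.inr (by haveI := hP.isNilpotent; infer_instance)) inf_le_left
    (le_trans (le_inf Subgroup.le_normalizer Subgroup.le_normalizer_of_normal)
      Subgroup.inf_normalizer_le_normalizer_inf)
    (le_trans (le_inf hKN Subgroup.le_normalizer_of_normal)
      Subgroup.inf_normalizer_le_normalizer_inf) hxP fun k hk => Subgroup.mem_inf.2
        ⟨mul_mem ((Subgroup.mem_normalizer_iff.1 (hKN hk) x).1 hxP) (inv_mem hxP), by
          rw [MonoidHom.mem_ker, map_mul, map_mul, map_mul, map_inv, map_inv, hfx,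
            (hHc _ (Subgroup.mem_inf.1 (hKR hk)).1).eq]
          group⟩
  have hfc : f c = a₀ := by
    have e : f (x⁻¹ * c) = 1 := hxc'.2
    rw [map_mul, map_inv, inv_mul_eq_one, hfx] at e
    exact e.symm
  refine hKs (solvable_le ?_ (hG c (lift_not_central f hf a₀ hfc hxc) (pElt_of_mem hP hc.1)))
  intro k hk
  exact Subgroup.mem_centralizer_singleton_iff.2 (Subgroup.mem_centralizer_iff.1 hc.2 k hk)

end Lift

end Cfsg.Agent.AltSections.Reduction
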