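import Cfsg.Agent.Lib.AltSections.Cert
import Cfsg.Agent.Lib.AltSections.Reduction

/-!
# From the alternating to the symmetric group

A representation of the alternating group without non-zero vectors fixed by non-solvable subgroups
induces one of the symmetric group with the same property.
-/

set_option autoImplicit false

namespace Cfsg.Agent.AltSections.Extend

open Matrix Cfsg.Agent.AltSections.Cert

variable {p n m : ℕ}

/-- No non-zero vector is fixed by a non-solvable subgroup of the alternating group. -/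
def NoFixAlt (ρ : alternatingGroup (Fin n) →* Matrix (Fin m) (Fin m) (ZMod p)) : Prop :=
  ∀ H : Subgroup (alternatingGroup (Fin n)), ¬ Group.IsSolvable H →
    ∀ v : Fin m → ZMod p, (∀ h ∈ H, ρ h *ᵥ v = v) → v = 0

theorem not_solvable_alt_inf {H : Subgroup (Equiv.Perm (Fin n))} (hH : ¬ Group.IsSolvable H) :
    ¬ Group.IsSolvable (H.subgroupOf (alternatingGroup (Fin n))) := fun h => hH (by
  refine Reduction.solvable_ext (Equiv.Perm.sign.comp H.subtype) ?_
    (Group.isSolvable_of_comm fun a b => mul_comm a b)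
  haveI := h
  let ι : (Equiv.Perm.sign.comp H.subtype).ker →* H.subgroupOf (alternatingGroup (Fin n)) :=
    { toFun := fun x => ⟨⟨((x : H) : Equiv.Perm (Fin n)), Equiv.Perm.mem_alternatingGroup.2 x.2⟩,
        Subgroup.mem_subgroupOf.2 (x : H).2⟩
      map_one' := rfl
      map_mul' := fun _ _ => rfl }
  exact Group.isSolvable_of_isSolvable_injective (f := ι) fun a b hab => by
    have e : (((ι a : H.subgroupOf (alternatingGroup (Fin n))) : alternatingGroup (Fin n)) :
        Equiv.Perm (Fin n)) = ((ι b : alternatingGroup (Fin n)) : Equiv.Perm (Fin n)) :=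
      congrArg (fun z : H.subgroupOf (alternatingGroup (Fin n)) =>
        ((z : alternatingGroup (Fin n)) : Equiv.Perm (Fin n))) hab
    exact Subtype.ext (Subtype.ext e))

variable (ρ : alternatingGroup (Fin n) →* Matrix (Fin m) (Fin m) (ZMod p))

open Classical in
noncomputable def ext0 (g : Equiv.Perm (Fin n)) : Matrix (Fin m) (Fin m) (ZMod p) :=
  if h : g ∈ alternatingGroup (Fin n) then ρ ⟨g, h⟩ else 1

theorem ext0_mul {a b : Equiv.Perm (Fin n)} (ha : Equiv.Perm.sign a = 1)
    (hb : Equiv.Perm.sign b = 1) : ext0 ρ a * ext0 ρ b = ext0 ρ (a * b) := by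
  have ha' : a ∈ alternatingGroup (Fin n) := Equiv.Perm.mem_alternatingGroup.2 ha
  have hb' : b ∈ alternatingGroup (Fin n) := Equiv.Perm.mem_alternatingGroup.2 hb
  rw [ext0, ext0, ext0, dif_pos ha', dif_pos hb', dif_pos (mul_mem ha' hb'), ← map_mul]
  rfl

/-- The induced representation, for a transposition `τ`. -/
noncomputable def block (τ g : Equiv.Perm (Fin n)) :
    Matrix (Fin m ⊕ Fin m) (Fin m ⊕ Fin m) (ZMod p) :=
  if Equiv.Perm.sign g = 1 then Matrix.fromBlocks (ext0 ρ g) 0 0 (ext0 ρ (τ * g * τ))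
  else Matrix.fromBlocks 0 (ext0 ρ (g * τ)) (ext0 ρ (τ * g)) 0

variable {ρ}

theorem block_mul {τ : Equiv.Perm (Fin n)} (hτ : τ * τ = 1) (hs : Equiv.Perm.sign τ = -1)
    (a b : Equiv.Perm (Fin n)) : block ρ τ a * block ρ τ b = block ρ τ (a * b) := by
  have hτ' : ∀ x : Equiv.Perm (Fin n), τ * (τ * x) = x := fun x => by rw [← mul_assoc, hτ, one_mul]
  rcases Int.units_eq_one_or (Equiv.Perm.sign a) with ha | ha <;>
    rcases Int.units_eq_one_or (Equiv.Perm.sign b) with hb | hb <;>
    simp only [block, ha, hb, map_mul, mul_one, one_mul, if_true, mul_neg, neg_mul, neg_neg,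
      show ((-1 : ℤˣ) = 1) = False from eq_false (by decide), if_false, Matrix.fromBlocks_multiply,
      Matrix.mul_zero, Matrix.zero_mul, add_zero, zero_add] <;>
    congr 1 <;>
    rw [ext0_mul ρ (by simp [ha, hb, hs]) (by simp [ha, hb, hs])] <;>
    simp only [mul_assoc, hτ', hτ, mul_one]

variable (ρ)

theorem block_one {τ : Equiv.Perm (Fin n)} (hτ : τ * τ = 1) : block ρ τ 1 = 1 := by
  have h1 : ext0 ρ 1 = 1 := by
    rw [ext0, dif_pos (one_mem _)]
    exact map_one ρ
  rw [block, if_pos (map_one _), mul_one, hτ, h1, Matrix.fromBlocks_one]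

/-- The representation on twice the coordinates. -/
noncomputable def sym {τ : Equiv.Perm (Fin n)} (hτ : τ * τ = 1) (hs : Equiv.Perm.sign τ = -1) :
    Equiv.Perm (Fin n) →* Matrix (Fin (m + m)) (Fin (m + m)) (ZMod p) where
  toFun g := Matrix.reindex finSumFinEquiv finSumFinEquiv (block ρ τ g)
  map_one' := by rw [block_one ρ hτ]; simp [Matrix.reindex_apply]
  map_mul' a b := by
    rw [← block_mul hτ hs]
    simp [Matrix.reindex_apply, Matrix.submatrix_mul_equiv]

variable {ρ}

theorem noFix_sym (h : NoFixAlt ρ) {τ : Equiv.Perm (Fin n)} (hτ : τ * τ = 1)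
    (hs : Equiv.Perm.sign τ = -1) : NoFix (sym ρ hτ hs) := by
  intro H hH v hv
  set v₁ : Fin m → ZMod p := fun i => v (finSumFinEquiv (Sum.inl i)) with hv₁
  set v₂ : Fin m → ZMod p := fun i => v (finSumFinEquiv (Sum.inr i)) with hv₂
  have hsplit : v ∘ finSumFinEquiv = Sum.elim v₁ v₂ := by
    funext x; cases x <;> rfl
  have hfix : ∀ g ∈ H, Equiv.Perm.sign g = 1 →
      ext0 ρ g *ᵥ v₁ = v₁ ∧ ext0 ρ (τ * g * τ) *ᵥ v₂ = v₂ := by
    intro g hg hsg
    have e := hv g hg
    simp only [sym, MonoidHom.coe_mk, OneHom.coe_mk, Matrix.reindex_apply,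
      Matrix.submatrix_mulVec_equiv, Equiv.symm_symm] at e
    have e' : block ρ τ g *ᵥ (v ∘ finSumFinEquiv) = v ∘ finSumFinEquiv := by
      funext x
      have := congrFun e (finSumFinEquiv x)
      simpa using this
    rw [hsplit, block, if_pos hsg, Matrix.fromBlocks_mulVec] at e'
    simp only [Matrix.zero_mulVec, add_zero, zero_add, Sum.elim_comp_inl, Sum.elim_comp_inr] at e'
    exact ⟨funext fun i => congrFun e' (Sum.inl i), funext fun i => congrFun e' (Sum.inr i)⟩
  have h1 : v₁ = 0 := h _ (not_solvable_alt_inf hH) v₁ fun g hg => by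
    have := (hfix g (Subgroup.mem_subgroupOf.1 hg) (Equiv.Perm.mem_alternatingGroup.1 g.2)).1
    rwa [ext0, dif_pos g.2] at this
  have h2 : v₂ = 0 := by
    have hH' : ¬ Group.IsSolvable (H.map (MulAut.conj τ).toMonoidHom) := fun hs' => hH (by
      haveI := hs'
      exact Group.isSolvable_of_isSolvable_injective
        (f := (H.equivMapOfInjective (MulAut.conj τ).toMonoidHom (MulAut.conj τ).injective).toMonoidHom)
        (MulEquiv.injective _))
    refine h _ (not_solvable_alt_inf hH') v₂ fun g hg => ?_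
    obtain ⟨x, hx, hxg⟩ := Subgroup.mem_subgroupOf.1 hg
    simp only [MulEquiv.coe_toMonoidHom, MulAut.conj_apply] at hxg
    have hgx : τ * x * τ = (g : Equiv.Perm (Fin n)) := by
      rw [← hxg, inv_eq_of_mul_eq_one_left hτ]
    have hsx : Equiv.Perm.sign x = 1 := by
      have := Equiv.Perm.mem_alternatingGroup.1 g.2
      rw [← hgx, map_mul, map_mul, hs] at this
      simpa using this
    have := (hfix x hx hsx).2
    rw [hgx, ext0, dif_pos g.2] at this
    exact this
  funext i
  obtain ⟨x, rfl⟩ := finSumFinEquiv.surjective i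
  cases x with
  | inl a => exact congrFun h1 a
  | inr a => exact congrFun h2 a

end Cfsg.Agent.AltSections.Extend
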