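import Mathlib

/-!
# Traces of lifted matrices of regular elements

A matrix representation over `ZMod p` lifts over `ZMod (p ^ k)` on every subgroup of order prime
to `p`, and the traces of the lifts are a class function whose sum over such a subgroup is its
order times the dimension of its fixed space.
-/

set_option autoImplicit false

namespace Cfsg.Agent.AltSections.LiftTrace

open Matrix

variable {p k m : ℕ} [hp : Fact p.Prime] [hk : NeZero k]

abbrev Mat (p m : ℕ) := Matrix (Fin m) (Fin m) (ZMod p)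

theorem dvd_pow_k : p ∣ p ^ k := dvd_pow_self p (NeZero.ne k)

noncomputable def cast' : ZMod (p ^ k) →+* ZMod p := ZMod.castHom (dvd_pow_k) (ZMod p)

noncomputable def red : Mat (p ^ k) m →+* Mat p m := (cast' (p := p) (k := k)).mapMatrix


theorem cast'_surjective : Function.Surjective (cast' (p := p) (k := k)) :=
  ZMod.ringHom_surjective _


theorem red_surjective : Function.Surjective (red (p := p) (k := k) (m := m)) := by
  intro A
  choose f hf using fun i j => cast'_surjective (k := k) (A i j)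
  exact ⟨Matrix.of f, Matrix.ext fun i j => hf i j⟩

theorem isUnit_of_cast {x : ZMod (p ^ k)} (h : IsUnit (cast' x)) : IsUnit x := by
  haveI : NeZero (p ^ k) := ⟨pow_ne_zero _ hp.out.ne_zero⟩
  rw [← ZMod.natCast_zmod_val x] at h ⊢
  rw [map_natCast, ZMod.isUnit_iff_coprime] at h
  rw [ZMod.isUnit_iff_coprime]
  exact h.pow_right k

theorem isUnit_of_red {A : Mat (p ^ k) m} (h : IsUnit (red A)) : IsUnit A := by
  rw [Matrix.isUnit_iff_isUnit_det] at h ⊢
  apply isUnit_of_cast
  rw [RingHom.map_det]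
  exact h

theorem isUnit_natCast {o : ℕ} (h : ¬ p ∣ o) : IsUnit (o : ZMod (p ^ k)) :=
  (ZMod.isUnit_iff_coprime _ _).2
    (((Nat.Prime.coprime_iff_not_dvd hp.out).2 h).symm.pow_right k)

theorem isUnit_natCast_p {o : ℕ} (h : ¬ p ∣ o) : IsUnit (o : ZMod p) :=
  (ZMod.isUnit_iff_coprime _ _).2 ((Nat.Prime.coprime_iff_not_dvd hp.out).2 h).symm

/-- Two lifts of the same matrix of order prime to `p` are conjugate. -/
theorem conj_of_red_eq {A B : Mat (p ^ k) m} {o : ℕ} (ho : ¬ p ∣ o) (hred : red A = red B)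
    (hA : A ^ o = 1) (hB : B ^ o = 1) :
    ∃ U : (Mat (p ^ k) m)ˣ, A * U = U * B := by
  set U := ∑ i ∈ Finset.range o, A ^ i * B ^ (o - i) with hU
  have hru : IsUnit (red U) := by
    have e : red U = (o : Mat p m) := by
      rw [hU, map_sum, Finset.sum_congr rfl (fun i hi => ?_), Finset.sum_const,
        Finset.card_range, nsmul_one]
      rw [map_mul, map_pow, map_pow, hred, ← pow_add,
        Nat.add_sub_cancel' (Finset.mem_range.1 hi).le, ← map_pow, hB, map_one]
    rw [e, ← map_natCast (algebraMap (ZMod p) (Mat p m))]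
    exact (isUnit_natCast_p ho).map _
  have hAU : A * U = U * B := by
    let F : ℕ → Mat (p ^ k) m := fun i => A ^ i * B ^ (o + 1 - i)
    have h1 : A * U = ∑ i ∈ Finset.range o, F (i + 1) := by
      rw [hU, Finset.mul_sum]
      refine Finset.sum_congr rfl fun i hi => ?_
      simp only [F, ← mul_assoc, ← pow_succ', Nat.add_sub_add_right]
    have h2 : U * B = ∑ i ∈ Finset.range o, F i := by
      rw [hU, Finset.sum_mul]
      refine Finset.sum_congr rfl fun i hi => ?_
      simp only [F, mul_assoc, ← pow_succ]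
      congr 2
      have := Finset.mem_range.1 hi
      omega
    have h3 : F o = F 0 := by
      simp [F, hA, pow_succ, hB]
    have h4 := (Finset.sum_range_succ' F o).symm.trans (Finset.sum_range_succ F o)
    rw [h3] at h4
    rw [h1, h2]
    exact add_right_cancel h4
  exact ⟨(isUnit_of_red hru).unit, hAU⟩

theorem trace_eq_of_conj {A B : Mat (p ^ k) m} (U : (Mat (p ^ k) m)ˣ) (h : A * U = U * B) :
    A.trace = B.trace := by
  have : A = (U : Mat (p ^ k) m) * B * ((U⁻¹ : (Mat (p ^ k) m)ˣ) : Mat (p ^ k) m) := by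
    rw [← h, mul_assoc, Units.mul_inv, mul_one]
  rw [this, Matrix.trace_units_conj]

variable {G : Type*} [Group G] (ρ : G →* Mat p m)

open Classical in
/-- The trace of a lift of a regular element, read in `ZMod (p ^ k)`. -/
noncomputable def tau (k : ℕ) [NeZero k] (g : G) : ZMod (p ^ k) :=
  if h : ∃ A : Mat (p ^ k) m, red A = ρ g ∧ A ^ orderOf g = 1 then h.choose.trace else 0

theorem tau_eq {g : G} (hg : ¬ p ∣ orderOf g) {A : Mat (p ^ k) m} (hA : red A = ρ g)
    (hA1 : A ^ orderOf g = 1) : tau ρ k g = A.trace := by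
  have h : ∃ B : Mat (p ^ k) m, red B = ρ g ∧ B ^ orderOf g = 1 := ⟨A, hA, hA1⟩
  rw [tau, dif_pos h]
  obtain ⟨U, hU⟩ := conj_of_red_eq hg (h.choose_spec.1.trans hA.symm) h.choose_spec.2 hA1
  exact trace_eq_of_conj U hU

theorem tau_one [Finite G] : tau ρ k (1 : G) = (m : ZMod (p ^ k)) := by
  rw [tau_eq ρ (A := 1) (by simpa using hp.out.not_dvd_one) (by simp) (one_pow _)]
  simp

/-- The representation lifts on a subgroup of order prime to `p`. -/
theorem exists_lift (Q : Type*) [Group Q] [Finite Q] (σ : Q →* Mat p m)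
    (hQ : ¬ p ∣ Nat.card Q) :
    ∃ σ' : Q →* Mat (p ^ k) m, ∀ q, red (σ' q) = σ q := by
  haveI : NeZero (p ^ k) := ⟨pow_ne_zero _ hp.out.ne_zero⟩
  let f₁ : Q × (Mat (p ^ k) m)ˣ →* (Mat p m)ˣ := σ.toHomUnits.comp (MonoidHom.fst _ _)
  let f₂ : Q × (Mat (p ^ k) m)ˣ →* (Mat p m)ˣ :=
    (Units.map (red (p := p) (k := k) (m := m)).toMonoidHom).comp (MonoidHom.snd _ _)
  let X : Subgroup (Q × (Mat (p ^ k) m)ˣ) := MonoidHom.eqLocus f₁ f₂
  let π : X →* Q := (MonoidHom.fst _ _).comp X.subtype
  have hπ : Function.Surjective π := by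
    intro q
    obtain ⟨A, hA⟩ := red_surjective (k := k) ((σ q))
    have hu : IsUnit A := isUnit_of_red (by
      rw [hA, ← MonoidHom.coe_toHomUnits]; exact (σ.toHomUnits q).isUnit)
    exact ⟨⟨(q, hu.unit), Units.ext (by simp [f₁, f₂, hA])⟩, rfl⟩
  have hker : (Nat.card π.ker).Coprime π.ker.index := by
    rw [Subgroup.index_ker, MonoidHom.range_eq_top.2 hπ, Subgroup.card_top]
    refine Nat.coprime_of_dvd fun r hr h1 h2 => ?_
    haveI := Fact.mk hr
    obtain ⟨⟨⟨⟨q, U⟩, hx⟩, hxk⟩, hord⟩ := exists_prime_orderOf_dvd_card' r h1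
    have hq : q = 1 := hxk
    subst hq
    have hrp : ¬ p ∣ r := fun h => hQ (((Nat.prime_dvd_prime_iff_eq hp.out hr).1 h) ▸ h2)
    have hUr : (U : Mat (p ^ k) m) ^ r = 1 := by
      have := pow_orderOf_eq_one (⟨⟨(1, U), hx⟩, hxk⟩ : π.ker)
      rw [hord] at this
      have := congrArg (fun z : π.ker => (((z : X) : Q × (Mat (p ^ k) m)ˣ).2 : Mat (p ^ k) m)) this
      simpa using this
    have hUred : red (U : Mat (p ^ k) m) = red (1 : Mat (p ^ k) m) := by
      have e : f₁ (1, U) = f₂ (1, U) := hx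
      have := congrArg Units.val e
      simp [f₁, f₂] at this
      rw [map_one]; exact this.symm
    obtain ⟨W, hW⟩ := conj_of_red_eq (k := k) hrp hUred hUr (one_pow r)
    rw [mul_one] at hW
    have hU1 : U = 1 := by
      have : U * W = 1 * W := Units.ext (by simpa using hW)
      exact mul_right_cancel this
    subst hU1
    have h1' : (⟨⟨(1, (1 : (Mat (p ^ k) m)ˣ)), hx⟩, hxk⟩ : π.ker) = 1 := rfl
    rw [h1', orderOf_one] at hord
    exact hr.one_lt.ne hord
  obtain ⟨C, hC⟩ := Subgroup.exists_right_complement'_of_coprime hker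
  have hb : Function.Bijective (π.comp C.subtype) := by
    constructor
    · refine (injective_iff_map_eq_one _).2 fun c hc => ?_
      have hcN : (c : X) ∈ π.ker ⊓ C := ⟨hc, c.2⟩
      rw [disjoint_iff.1 hC.disjoint] at hcN
      exact Subtype.ext (Subgroup.mem_bot.1 hcN)
    · intro q
      obtain ⟨x, rfl⟩ := hπ q
      obtain ⟨⟨n, c⟩, hnc⟩ := hC.2 x
      refine ⟨c, ?_⟩
      rw [MonoidHom.comp_apply, ← hnc]
      simp [map_mul, MonoidHom.mem_ker.1 n.2]
  let e : C ≃* Q := MulEquiv.ofBijective _ hb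
  refine ⟨(Units.coeHom _).comp ((MonoidHom.snd _ _).comp
    ((X.subtype.comp C.subtype).comp e.symm.toMonoidHom)), fun q => ?_⟩
  obtain ⟨c, rfl⟩ := e.surjective q
  have hsymm : e.symm (e c) = c := e.symm_apply_apply c
  have hc : f₁ ((c : X) : Q × (Mat (p ^ k) m)ˣ) = f₂ ((c : X) : Q × (Mat (p ^ k) m)ˣ) := (c : X).2
  have := congrArg Units.val hc
  simp only [MonoidHom.comp_apply, MulEquiv.coe_toMonoidHom, hsymm]
  simpa [f₁, f₂, e, π] using this.symm

theorem exists_elt_lift [Finite G] {g : G} (hg : ¬ p ∣ orderOf g) :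
    ∃ A : Mat (p ^ k) m, red A = ρ g ∧ A ^ orderOf g = 1 := by
  obtain ⟨σ', h⟩ := exists_lift (k := k) (Subgroup.zpowers g) (ρ.comp (Subgroup.subtype _))
    (by rw [Nat.card_zpowers]; exact hg)
  refine ⟨σ' ⟨g, Subgroup.mem_zpowers g⟩, h _, ?_⟩
  rw [← map_pow, ← map_one σ']
  exact congrArg σ' (Subtype.ext (by simp [pow_orderOf_eq_one]))

theorem tau_conj [Finite G] {g : G} (hg : ¬ p ∣ orderOf g) (h : G) :
    tau ρ k (h * g * h⁻¹) = tau ρ k g := by
  obtain ⟨A, hA, hA1⟩ := exists_elt_lift (k := k) ρ hg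
  obtain ⟨H, hH⟩ := red_surjective (k := k) (ρ h)
  have hu : IsUnit H := isUnit_of_red (by
    rw [hH, ← MonoidHom.coe_toHomUnits]; exact (ρ.toHomUnits h).isUnit)
  obtain ⟨U, rfl⟩ := hu
  have ho : orderOf (h * g * h⁻¹) = orderOf g :=
    orderOf_injective (MulAut.conj h).toMonoidHom (MulAut.conj h).injective g
  have hinv : red ((U⁻¹ : (Mat (p ^ k) m)ˣ) : Mat (p ^ k) m) = ρ h⁻¹ := by
    have e : red ((U : Mat (p ^ k) m)) * red ((U⁻¹ : (Mat (p ^ k) m)ˣ) : Mat (p ^ k) m) = 1 := by
      rw [← map_mul, Units.mul_inv, map_one]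
    have e' : ρ h⁻¹ * ρ h = 1 := by rw [← map_mul, inv_mul_cancel, map_one]
    rw [hH] at e
    exact (left_inv_eq_right_inv e' e).symm
  rw [tau_eq ρ hg hA hA1, tau_eq ρ (g := h * g * h⁻¹)
    (A := (U : Mat (p ^ k) m) * A * ((U⁻¹ : (Mat (p ^ k) m)ˣ) : Mat (p ^ k) m)) (by rw [ho]; exact hg)
    (by rw [map_mul, map_mul, hH, hA, hinv, map_mul, map_mul])
    (by rw [ho, Units.conj_pow, hA1, mul_one, Units.mul_inv]), Matrix.trace_units_conj]

/-- The fixed vectors of a subgroup. -/
def fixedSub (Q : Subgroup G) : Submodule (ZMod p) (Fin m → ZMod p) where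
  carrier := {v | ∀ q ∈ Q, ρ q *ᵥ v = v}
  add_mem' ha hb q hq := by rw [Matrix.mulVec_add, ha q hq, hb q hq]
  zero_mem' q _ := Matrix.mulVec_zero _
  smul_mem' c v hv q hq := by rw [Matrix.mulVec_smul, hv q hq]

theorem mem_fixedSub {Q : Subgroup G} {v : Fin m → ZMod p} :
    v ∈ fixedSub ρ Q ↔ ∀ q ∈ Q, ρ q *ᵥ v = v := Iff.rfl

/-- An idempotent matrix over `ZMod (p ^ k)` has as trace the rank of its reduction. -/
theorem trace_idem {E : Mat (p ^ k) m} (hE : E * E = E) :
    E.trace = (Module.finrank (ZMod p) (LinearMap.range (red E).mulVecLin) : ZMod (p ^ k)) := by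
  classical
  set f := (red E).mulVecLin with hf
  have hff : f.comp f = f := by
    rw [hf, ← Matrix.mulVecLin_mul, ← map_mul, hE]
  have hid : IsIdempotentElem f := hff
  have hproj := LinearMap.IsIdempotentElem.isProj_range f hid
  let bR := Module.finBasis (ZMod p) (LinearMap.range f)
  let bK := Module.finBasis (ZMod p) (LinearMap.ker f)
  let b := (bR.prod bK).map (Submodule.prodEquivOfIsCompl _ _ hproj.isCompl)
  let ι := Fin (Module.finrank (ZMod p) (LinearMap.range f)) ⊕
    Fin (Module.finrank (ZMod p) (LinearMap.ker f))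
  have hcard : Fintype.card ι = m := by
    exact ((Module.finrank_eq_card_basis b).symm).trans (by simp)
  let σ : ι ≃ Fin m := Fintype.equivFinOfCardEq hcard
  let b' := b.reindex σ
  let P : Mat p m := (Pi.basisFun (ZMod p) (Fin m)).toMatrix b'
  let P' : Mat p m := b'.toMatrix (Pi.basisFun (ZMod p) (Fin m))
  have hPP : P * P' = 1 := Module.Basis.toMatrix_mul_toMatrix_flip _ _
  let δ : Fin m → Bool := fun i => (σ.symm i).isLeft
  let D₀ : Mat p m := Matrix.diagonal fun i => if δ i then 1 else 0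
  let D : Mat (p ^ k) m := Matrix.diagonal fun i => if δ i then 1 else 0
  have hD : red D = D₀ := by
    ext i j
    simp only [D, D₀, red, RingHom.mapMatrix_apply, Matrix.map_apply, Matrix.diagonal_apply]
    split_ifs <;> simp
  have hEP : red E * P = P * D₀ := by
    ext i j
    have hcol : (red E * P) i j = f (b' j) i := by
      simp [hf, P, Matrix.mul_apply, Matrix.mulVec, dotProduct, Module.Basis.toMatrix_apply]
    have hcol' : (P * D₀) i j = P i j * (if δ j then 1 else 0) := Matrix.mul_diagonal _ _ _ _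
    rw [hcol, hcol']
    have hP : P i j = b' j i := by simp [P, Module.Basis.toMatrix_apply]
    rw [hP]
    obtain ⟨x, rfl⟩ := σ.surjective j
    cases x with
    | inl a =>
      have hb : b' (σ (Sum.inl a)) = (bR a : Fin m → ZMod p) := by simp [b', b]
      have hfx := hproj.map_id _ (bR a).2
      simp [δ, hb, hfx]
    | inr a =>
      have hb : b' (σ (Sum.inr a)) = (bK a : Fin m → ZMod p) := by simp [b', b]
      have hfx : f (bK a : Fin m → ZMod p) = 0 := (bK a).2
      simp [δ, hb, hfx]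
  obtain ⟨A, hA⟩ := red_surjective (k := k) P
  obtain ⟨U, rfl⟩ : IsUnit A := isUnit_of_red (by
    rw [hA]
    exact (Matrix.isUnit_iff_isUnit_det _).2
      (IsUnit.of_mul_eq_one P'.det (by rw [← Matrix.det_mul, hPP, Matrix.det_one])))
  set E' : Mat (p ^ k) m := (U : Mat (p ^ k) m) * D * ((U⁻¹ : (Mat (p ^ k) m)ˣ) : Mat (p ^ k) m)
    with hE'
  have hDD : D * D = D := by
    rw [Matrix.diagonal_mul_diagonal]
    congr 1
    funext i
    split_ifs <;> simp
  have hE'E' : E' * E' = E' := by
    simp only [hE', mul_assoc, Units.inv_mul_cancel_left]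
    rw [← mul_assoc D D, hDD]
  have hred : red E' = red E := by
    have e : red E * red (U : Mat (p ^ k) m) = red (U : Mat (p ^ k) m) * red D := by
      rw [hA, hD]; exact hEP
    rw [hE', map_mul, map_mul, ← e, mul_assoc, ← map_mul, Units.mul_inv, map_one, mul_one]
  set W := E * E' + (1 - E) * (1 - E') with hW
  have hWu : IsUnit W := by
    apply isUnit_of_red
    have h1 : red E * red E = red E := by rw [← map_mul, hE]
    have : red W = 1 := by
      rw [hW]
      simp only [map_add, map_sub, map_mul red E E', map_mul red (1 - E) (1 - E'), map_one, hred]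
      simp [sub_mul, mul_sub, h1]
    rw [this]; exact isUnit_one
  have hEW : E * W = W * E' := by
    simp only [hW, mul_add, add_mul, mul_sub, sub_mul, mul_one, one_mul]
    simp only [← mul_assoc, hE]
    simp only [mul_assoc, hE'E']
    abel
  rw [trace_eq_of_conj (B := E') hWu.unit hEW, hE', Matrix.trace_units_conj, Matrix.trace_diagonal,
    Finset.sum_boole]
  congr 1
  rw [← Finset.card_fin (Module.finrank (ZMod p) (LinearMap.range f))]
  refine (Finset.card_bij (fun a _ => σ (Sum.inl a)) (fun a _ => by simp [δ]) (fun a _ b _ h => by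
    exact Sum.inl_injective (σ.injective h)) fun j hj => ?_).symm
  obtain ⟨x, rfl⟩ := σ.surjective j
  cases x with
  | inl a => exact ⟨a, by simp, rfl⟩
  | inr a => simp [δ] at hj

/-- The traces over a subgroup of order prime to `p` sum to its order times the dimension of its
fixed space. -/
theorem sum_tau [Finite G] (Q : Subgroup G) [Fintype Q] (hQ : ¬ p ∣ Nat.card Q) :
    ∑ q : Q, tau ρ k (q : G) =
      (Nat.card Q : ZMod (p ^ k)) *
        (Module.finrank (ZMod p) (fixedSub ρ Q) : ZMod (p ^ k)) := by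
  obtain ⟨σ', h⟩ := exists_lift (k := k) Q (ρ.comp Q.subtype) hQ
  have htau : ∀ q : Q, tau ρ k (q : G) = (σ' q).trace := fun q => tau_eq ρ
    (fun hd => hQ (hd.trans (Q.orderOf_dvd_natCard q.2))) (h q)
    (by rw [← map_pow, Subgroup.orderOf_coe, pow_orderOf_eq_one, map_one])
  obtain ⟨u, hu⟩ := isUnit_natCast (p := p) (k := k) hQ
  set S := ∑ q : Q, σ' q with hS
  set E := ((u⁻¹ : (ZMod (p ^ k))ˣ) : ZMod (p ^ k)) • S with hEdef
  have hSq : ∀ r : Q, σ' r * S = S := fun r => by
    rw [hS, Finset.mul_sum]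
    exact Fintype.sum_equiv (Equiv.mulLeft r) _ _ fun q => by simp
  have hSS : S * S = (Nat.card Q : ZMod (p ^ k)) • S := by
    conv_lhs => enter [1]; rw [hS]
    rw [Finset.sum_mul, Finset.sum_congr rfl fun r _ => hSq r, Finset.sum_const, Finset.card_univ,
      Nat.card_eq_fintype_card, Nat.cast_smul_eq_nsmul]
  have hE : E * E = E := by
    rw [hEdef, smul_mul_smul_comm, hSS, smul_smul, ← hu, mul_assoc, Units.inv_mul, mul_one]
  have hrange : LinearMap.range (red E).mulVecLin = fixedSub ρ Q := by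
    ext v
    constructor
    · rintro ⟨w, rfl⟩ q hq
      have : σ' ⟨q, hq⟩ * E = E := by rw [hEdef, mul_smul_comm, hSq]
      have := congrArg red this
      rw [map_mul, h] at this
      change ρ q *ᵥ (red E *ᵥ w) = red E *ᵥ w
      rw [Matrix.mulVec_mulVec]
      exact congrArg (· *ᵥ w) this
    · intro hv
      refine ⟨v, ?_⟩
      have e : red E = cast' ((u⁻¹ : (ZMod (p ^ k))ˣ) : ZMod (p ^ k)) • ∑ q : Q, ρ (q : G) := by
        rw [hEdef]
        have : red (((u⁻¹ : (ZMod (p ^ k))ˣ) : ZMod (p ^ k)) • S) =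
            cast' ((u⁻¹ : (ZMod (p ^ k))ˣ) : ZMod (p ^ k)) • red S := by
          ext i j
          simp [red]
        rw [this, hS, map_sum]
        congr 1
        exact Finset.sum_congr rfl fun q _ => h q
      change red E *ᵥ v = v
      rw [e, Matrix.smul_mulVec, Matrix.sum_mulVec,
        Finset.sum_congr rfl fun (q : Q) _ => hv q q.2, Finset.sum_const, Finset.card_univ,
        ← Nat.cast_smul_eq_nsmul (ZMod p), smul_smul, ← Nat.card_eq_fintype_card,
        ← map_natCast (cast' (p := p) (k := k)), ← map_mul, ← hu, Units.inv_mul, map_one, one_smul]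
  rw [Finset.sum_congr rfl fun q _ => htau q, ← Matrix.trace_sum, ← hS, ← hrange,
    ← trace_idem hE, hEdef, Matrix.trace_smul, smul_eq_mul, ← hu, ← mul_assoc, Units.mul_inv,
    one_mul]

end Cfsg.Agent.AltSections.LiftTrace
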