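import Cfsg.Agent.Lib.AltSections.Reduction

/-!
# The module of a kernel with noncentral `p`-elements

Its non-zero vectors are fixed by solvable subgroups only.
-/

set_option autoImplicit false

namespace Cfsg.Agent.AltSections.Reduction

open Subgroup
open scoped commutatorElement

variable {G : Type*} [Group G] [Finite G] {A : Type*} [Group A] {p : ℕ} [Fact p.Prime]

theorem mem_of_pow_mem_of_coprime {H : Subgroup G} {g : G} {a b : ℕ} (hab : Nat.Coprime a b)
    (ha : g ^ a ∈ H) (hb : g ^ b ∈ H) : g ∈ H := by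
  have e : g = (g ^ a) ^ (Nat.gcdA a b) * (g ^ b) ^ (Nat.gcdB a b) := by
    rw [← zpow_natCast, ← zpow_natCast, ← zpow_mul, ← zpow_mul, ← zpow_add, ← Nat.gcd_eq_gcd_ab,
      hab.gcd_eq_one, Nat.cast_one, zpow_one]
  rw [e]
  exact mul_mem (zpow_mem ha _) (zpow_mem hb _)

/-- An action on a vector space over `ZMod p`, as matrices. -/
theorem exists_matrices_aux {W : Type*} [AddCommGroup W] [Finite W] [Nontrivial W] [Module (ZMod p) W]
    (σ : A →* AddMonoid.End W) :
    ∃ (m : ℕ) (ρ : A →* Matrix (Fin m) (Fin m) (ZMod p)), 0 < m ∧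
      ∀ v : Fin m → ZMod p, ∃ w : W, (w = 0 → v = 0) ∧
        ∀ a, Matrix.mulVec (ρ a) v = v → σ a w = w := by
  haveI : Module.Finite (ZMod p) W := Module.Finite.of_finite
  let lin : A →* Module.End (ZMod p) W :=
    { toFun := fun a => AddMonoidHom.toZModLinearMap p (σ a)
      map_one' := LinearMap.ext fun x => by simp only [map_one]; rfl
      map_mul' := fun a b => LinearMap.ext fun x => by simp only [map_mul]; rfl }
  let B : Module.Basis (Fin (Module.finrank (ZMod p) W)) (ZMod p) W := Module.finBasis (ZMod p) W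
  refine ⟨Module.finrank (ZMod p) W, (LinearMap.toMatrixAlgEquiv B).toMonoidHom.comp lin,
    Module.finrank_pos, fun v => ⟨B.equivFun.symm v, fun h => ?_, fun a h => ?_⟩⟩
  · exact (LinearEquiv.map_eq_zero_iff _).1 h
  · have hrepr : (B.repr (B.equivFun.symm v) : Fin _ → ZMod p) = v := by
      funext i
      rw [← B.equivFun_apply, LinearEquiv.apply_symm_apply]
    have e : lin a (B.equivFun.symm v) = B.equivFun.symm v := by
      apply B.equivFun.injective
      rw [LinearEquiv.apply_symm_apply, B.equivFun_apply]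
      conv_rhs => rw [← h, ← hrepr]
      exact (LinearMap.toMatrix_mulVec_repr B B (lin a) _).symm
    exact e

/-- An action on an elementary abelian `p`-group, as matrices. -/
theorem exists_matrices {W : Type*} [CommGroup W] [Finite W] [Nontrivial W]
    (hW : ∀ x : W, x ^ p = 1) (σ : A →* MulAut W) :
    ∃ (m : ℕ) (ρ : A →* Matrix (Fin m) (Fin m) (ZMod p)), 0 < m ∧
      ∀ v : Fin m → ZMod p, ∃ w : W, (w = 1 → v = 0) ∧
        ∀ a, Matrix.mulVec (ρ a) v = v → σ a w = w := by
  haveI : Finite (Additive W) := Finite.of_equiv W Additive.ofMul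
  let τ : A →* AddMonoid.End (Additive W) :=
    { toFun := fun a => MonoidHom.toAdditive (σ a).toMonoidHom
      map_one' := AddMonoidHom.ext fun x => by simp only [map_one]; rfl
      map_mul' := fun a b => AddMonoidHom.ext fun x => by simp only [map_mul]; rfl }
  obtain ⟨m, ρ, hm, hρ⟩ := @exists_matrices_aux A _ p _ (Additive W) _ _ _
    (AddCommGroup.zmodModule (n := p) fun x => congrArg Additive.ofMul (hW x.toMul)) τ
  refine ⟨m, ρ, hm, fun v => ?_⟩
  obtain ⟨w, hw0, hw⟩ := hρ v
  exact ⟨w.toMul, fun h => hw0 (Additive.toMul.injective h), fun a h =>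
    congrArg Additive.toMul (hw a h)⟩

set_option maxHeartbeats 1000000 in
theorem exists_module (f : G →* A) (hf : Function.Surjective f) (hfr : f.ker ≤ frattini G)
    (hG : Hyp p G) (hz : ∃ z ∈ f.ker, PElt p z ∧ z ∉ Subgroup.center G) :
    ∃ (m : ℕ) (ρ : A →* Matrix (Fin m) (Fin m) (ZMod p)), 0 < m ∧
      ∀ H : Subgroup A, ¬ Group.IsSolvable H →
        ∀ v : Fin m → ZMod p, (∀ h ∈ H, Matrix.mulVec (ρ h) v = v) → v = 0 := by
  classical
  have hp : p.Prime := Fact.out
  have hnil : Group.IsNilpotent f.ker := CN.isNilpotent_le hfr frattini_nilpotent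
  obtain ⟨P₀⟩ := (inferInstance : Nonempty (Sylow p f.ker))
  have hn : (P₀ : Subgroup f.ker).Normal :=
    (Group.isNilpotent_of_finite_tfae.out 0 3 rfl rfl).1 hnil p inferInstance P₀
  haveI := Sylow.unique_of_normal P₀ hn
  let Lp : Subgroup G := (P₀ : Subgroup f.ker).map f.ker.subtype
  have hLp : IsPGroup p Lp := P₀.2.map _
  have memLp : ∀ z, z ∈ Lp ↔ z ∈ f.ker ∧ PElt p z := fun z => by
    constructor
    · exact fun h => ⟨Subgroup.map_subtype_le _ h, pElt_of_mem hLp h⟩
    · rintro ⟨hzk, k, hk⟩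
      have hz : IsPGroup p (Subgroup.zpowers (⟨z, hzk⟩ : f.ker)) :=
        IsPGroup.of_card (n := k) (by rw [Nat.card_zpowers, Subgroup.orderOf_mk, hk])
      obtain ⟨Q, hQ⟩ := hz.exists_le_sylow
      rw [Subsingleton.elim Q P₀] at hQ
      exact ⟨⟨z, hzk⟩, hQ (Subgroup.mem_zpowers _), rfl⟩
  have hLpn : ∀ g : G, ∀ z ∈ Lp, g * z * g⁻¹ ∈ Lp := fun g z hz => by
    obtain ⟨hzk, k, hk⟩ := (memLp z).1 hz
    refine (memLp _).2 ⟨f.normal_ker.conj_mem z hzk g, k, ?_⟩
    rw [← hk]
    exact orderOf_injective (MulAut.conj g).toMonoidHom (MulAut.conj g).injective z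
  let q : G →* G ⧸ Subgroup.center G := QuotientGroup.mk' _
  have hq : ∀ a b : G, Commute (q a) (q b) ↔ ⁅a, b⁆ ∈ Subgroup.center G := fun a b => by
    rw [← QuotientGroup.eq_one_iff, ← QuotientGroup.mk'_apply, map_commutatorElement,
      commutatorElement_eq_one_iff_mul_comm]
    exact Iff.rfl
  let M : Subgroup G :=
    { carrier := {x | x ∈ Lp ∧ (∀ l ∈ Lp, Commute (q x) (q l)) ∧ q x ^ p = 1}
      one_mem' := ⟨one_mem _, fun l _ => by rw [map_one]; exact Commute.one_left _, by simp⟩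
      mul_mem' := fun {a b} ha hb => ⟨mul_mem ha.1 hb.1,
        fun l hl => by rw [map_mul]; exact (ha.2.1 l hl).mul_left (hb.2.1 l hl),
        by rw [map_mul, (ha.2.1 b hb.1).mul_pow, ha.2.2, hb.2.2, one_mul]⟩
      inv_mem' := fun {a} ha => ⟨inv_mem ha.1,
        fun l hl => by rw [map_inv]; exact (ha.2.1 l hl).inv_left,
        by rw [map_inv, inv_pow, ha.2.2, inv_one]⟩ }
  have hMn : ∀ g : G, ∀ x ∈ M, g * x * g⁻¹ ∈ M := fun g x hx => by
    refine ⟨hLpn g x hx.1, fun l hl => ?_, ?_⟩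
    · have hl' : g⁻¹ * l * g ∈ Lp := by simpa using hLpn g⁻¹ l hl
      have := (hx.2.1 _ hl').map (MulAut.conj (q g)).toMonoidHom
      simpa [mul_assoc] using this
    · simp only [map_mul, map_inv, conj_pow, hx.2.2, mul_one, mul_inv_cancel]
  let V : Subgroup (G ⧸ Subgroup.center G) := M.map q
  -- the action
  have hconj : ∀ g : G, ∀ x ∈ V, q g * x * (q g)⁻¹ ∈ V := by
    rintro g _ ⟨a, ha, rfl⟩
    exact ⟨g * a * g⁻¹, hMn g a ha, by simp⟩
  let act : G →* MulAut V :=
    { toFun := fun g =>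
        { toFun := fun x => ⟨q g * x * (q g)⁻¹, hconj g x x.2⟩
          invFun := fun x => ⟨q g⁻¹ * x * (q g⁻¹)⁻¹, hconj g⁻¹ x x.2⟩
          left_inv := fun x => Subtype.ext (by simp [mul_assoc])
          right_inv := fun x => Subtype.ext (by simp [mul_assoc])
          map_mul' := fun x y => Subtype.ext (by simp [mul_assoc]) }
      map_one' := MulEquiv.ext fun x => Subtype.ext (by simp)
      map_mul' := fun g h => MulEquiv.ext fun x => Subtype.ext (by simp [mul_assoc]) }
  have hkill : f.ker ≤ act.ker := fun l hl => by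
    refine MonoidHom.mem_ker.2 (MulEquiv.ext fun x => Subtype.ext ?_)
    obtain ⟨a, ha, hax⟩ := x.2
    have hc : Commute (q l) (q a) := by
      obtain ⟨i, b, hb, hib⟩ := Nat.exists_eq_pow_mul_and_not_dvd (orderOf_pos l).ne' p hp.ne_one
      have hmem : q l ∈ Subgroup.centralizer ({q a} : Set (G ⧸ Subgroup.center G)) := by
        refine mem_of_pow_mem_of_coprime (g := q l) (a := p ^ i) (b := b)
          (((Nat.Prime.coprime_iff_not_dvd hp).2 hb).pow_left i) ?_ ?_
        · refine Subgroup.mem_centralizer_singleton_iff.2 ?_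
          rw [← map_pow, ← map_mul, ← map_mul]
          congr 1
          refine CN.commute_of_coprime hnil (pow_mem hl _) ((memLp a).1 ha.1).1 ?_
          obtain ⟨-, k, hk⟩ := (memLp a).1 ha.1
          rw [hk]
          refine Nat.Coprime.pow_right k (Nat.Coprime.coprime_dvd_left ?_
            ((Nat.Prime.coprime_iff_not_dvd hp).2 hb).symm)
          exact orderOf_dvd_of_pow_eq_one (by rw [← pow_mul, ← hib, pow_orderOf_eq_one])
        · refine Subgroup.mem_centralizer_singleton_iff.2 ?_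
          rw [← map_pow]
          refine (ha.2.1 _ ((memLp _).2 ⟨pow_mem hl _, ?_⟩)).symm.eq
          obtain ⟨j, -, hj⟩ := (Nat.dvd_prime_pow hp).1
            (orderOf_dvd_of_pow_eq_one (x := l ^ b) (n := p ^ i)
              (by rw [← pow_mul, mul_comm, ← hib, pow_orderOf_eq_one]))
          exact ⟨j, hj⟩
      exact Subgroup.mem_centralizer_singleton_iff.1 hmem
    change q l * (x : G ⧸ Subgroup.center G) * (q l)⁻¹ = (x : G ⧸ Subgroup.center G)
    rw [← hax, hc.eq, mul_inv_cancel_right]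
  let σ : A →* MulAut V := f.liftOfSurjective hf ⟨act, hkill⟩
  have hσ : ∀ g, σ (f g) = act g := fun g => f.liftOfRightInverse_comp_apply _ _ ⟨act, hkill⟩ g
  haveI : Nontrivial V := by
    obtain ⟨z, hzk, hzp, hzc⟩ := hz
    have hzL : z ∈ Lp := (memLp z).2 ⟨hzk, hzp⟩
    let Q := Lp.map q
    haveI : Nontrivial Q := ⟨⟨⟨q z, z, hzL, rfl⟩, 1, fun e =>
      hzc ((QuotientGroup.eq_one_iff z).1 (congrArg Subtype.val e))⟩⟩
    haveI := IsPGroup.center_nontrivial (G := Q) (hLp.map q)
    obtain ⟨c, hc1⟩ := exists_ne (1 : Subgroup.center Q)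
    have hQp : IsPGroup p (Subgroup.center Q) := (hLp.map q).to_subgroup _
    obtain ⟨n, hn'⟩ := IsPGroup.iff_card.1 hQp
    have hdvd : p ∣ Nat.card (Subgroup.center Q) := by
      rcases Nat.eq_zero_or_pos n with rfl | hn0
      · rw [pow_zero, Nat.card_eq_one_iff_unique] at hn'
        exact absurd (@Subsingleton.elim _ hn'.1 c 1) hc1
      · rw [hn']; exact dvd_pow_self p hn0.ne'
    obtain ⟨d, hd⟩ := exists_prime_orderOf_dvd_card' p hdvd
    obtain ⟨a, ha, had⟩ := (d : Q).2
    have haM : a ∈ M := ⟨ha, fun l hl => by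
      have e := congrArg Subtype.val (Subgroup.mem_center_iff.1 d.2 ⟨q l, l, hl, rfl⟩)
      simp only [Subgroup.coe_mul] at e
      rw [had]
      exact e.symm, by
      rw [had, ← Subgroup.coe_pow, ← Subgroup.coe_pow, ← hd, pow_orderOf_eq_one]
      rfl⟩
    refine ⟨⟨⟨q a, a, haM, rfl⟩, 1, fun e => by
      have e' : q a = 1 := congrArg Subtype.val e
      have hd1 : d = 1 := Subtype.ext (Subtype.ext (had.symm.trans e'))
      rw [hd1, orderOf_one] at hd
      exact hp.ne_one hd.symm⟩⟩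
  letI : CommGroup V :=
    { (inferInstance : Group V) with
      mul_comm := by
        rintro ⟨_, a, ha, rfl⟩ ⟨_, b, hb, rfl⟩
        exact Subtype.ext (ha.2.1 b hb.1) }
  obtain ⟨m, ρ, hm, hρ⟩ := exists_matrices (W := V) (fun x => by
    obtain ⟨a, ha, hax⟩ := x.2
    exact Subtype.ext (by rw [Subgroup.coe_pow, ← hax, ha.2.2]; rfl)) σ
  refine ⟨m, ρ, hm, fun H hH v hv => ?_⟩
  obtain ⟨w, hw0, hwσ⟩ := hρ v
  obtain ⟨a, ha, haw⟩ := w.2
  by_cases hac : a ∈ Subgroup.center G
  · exact hw0 (Subtype.ext (by rw [← haw]; exact (QuotientGroup.eq_one_iff a).2 hac))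
  exfalso
  refine hG.false_of_central_commutators (not_solvable_comap f hf hH) hac ((memLp a).1 ha.1).2
    fun s hs => ?_
  have e := hwσ (f s) (hv (f s) hs)
  rw [hσ] at e
  have e2 : q s * (w : G ⧸ Subgroup.center G) * (q s)⁻¹ = (w : G ⧸ Subgroup.center G) :=
    congrArg Subtype.val e
  rw [← hq]
  rw [← haw, mul_inv_eq_iff_eq_mul] at e2
  exact e2

end Cfsg.Agent.AltSections.Reduction
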