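import Cfsg.Agent.Lib.AltSection.Combi
import Cfsg.Agent.Lib.AltSections.ModuleRed
import Cfsg.Agent.Lib.AltSections.Extend

/-!
# Commuting elements of small order and non-solvable subgroups in alternating groups
-/

set_option autoImplicit false

namespace Cfsg.Agent.AltSections.Witness

open Equiv Cfsg.Agent.AltSections.Reduction

theorem not_solvable_altFive : ¬ Group.IsSolvable (alternatingGroup (Fin 5)) := fun h =>
  Equiv.Perm.not_isSolvable_fin_5 (solvable_ext (Equiv.Perm.sign (α := Fin 5))
    (by
      have : (Equiv.Perm.sign (α := Fin 5)).ker = alternatingGroup (Fin 5) := rfl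
      rw [this]; exact h)
    (Group.isSolvable_of_comm fun a b => mul_comm a b))

theorem card_altFive : Nat.card (alternatingGroup (Fin 5)) = 60 := by
  have h := two_mul_nat_card_alternatingGroup (α := Fin 5)
  have h2 : Nat.card (Equiv.Perm (Fin 5)) = 120 := by
    rw [Nat.card_eq_fintype_card, Fintype.card_perm, Fintype.card_fin]
    rfl
  omega

variable (a : ℕ)

/-- The subgroup on the last five points. -/
noncomputable def lastFive : Subgroup (alternatingGroup (Fin (a + 5))) :=
  (AltSection.altExt (Fin.natAddEmb a)).range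

theorem not_solvable_lastFive : ¬ Group.IsSolvable (lastFive a) := fun h => by
  haveI : Group.IsSolvable ↥(AltSection.altExt (Fin.natAddEmb (m := 5) a)).range := h
  exact not_solvable_altFive (Group.isSolvable_of_isSolvable_injective
    (f := (AltSection.altExt (Fin.natAddEmb a)).rangeRestrict)
    (fun x y hxy => AltSection.altExt_injective _ (congrArg Subtype.val hxy)))

theorem card_lastFive : Nat.card (lastFive a) = 60 := by
  rw [lastFive, ← Nat.card_congr (MonoidHom.ofInjective (AltSection.altExt_injective _)).toEquiv,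
    card_altFive]

variable {a}

/-- An element on the first `a` points. -/
noncomputable def first (x : alternatingGroup (Fin a)) : alternatingGroup (Fin (a + 5)) :=
  AltSection.altExt (Fin.castAddEmb 5) x

theorem commute_first (x : alternatingGroup (Fin a)) :
    ∀ h ∈ lastFive a, Commute h (first x) := by
  rintro _ ⟨y, rfl⟩
  refine Subtype.ext (Perm.Disjoint.commute fun i => ?_)
  induction i using Fin.addCases with
  | left i =>
    refine Or.inl ?_
    rw [AltSection.coe_altExt, AltSection.permExt_apply_of_notMem]
    rintro ⟨j, hj⟩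
    have e : a + (j : ℕ) = (i : ℕ) := congrArg Fin.val hj
    omega
  | right i =>
    refine Or.inr ?_
    rw [first, AltSection.coe_altExt, AltSection.permExt_apply_of_notMem]
    rintro ⟨j, hj⟩
    have e : (j : ℕ) = a + (i : ℕ) := congrArg Fin.val hj
    omega

theorem first_not_central {x : alternatingGroup (Fin a)} (hx : x ≠ 1) :
    first x ∉ Subgroup.center (alternatingGroup (Fin (a + 5))) := by
  rw [alternatingGroup.center_eq_bot (by rw [Nat.card_eq_fintype_card, Fintype.card_fin]; omega),
    Subgroup.mem_bot]
  exact fun h => hx (AltSection.altExt_injective _ (h.trans (map_one _).symm))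

theorem pElt_first {p : ℕ} {x : alternatingGroup (Fin a)} (hx : orderOf x = p) :
    PElt p (first x) :=
  ⟨1, by rw [first, orderOf_injective _ (AltSection.altExt_injective _), hx, pow_one]⟩

theorem exists_four : ∃ x : alternatingGroup (Fin 4), orderOf x = 2 := by
  refine ⟨⟨Equiv.swap 0 1 * Equiv.swap 2 3, Equiv.Perm.mem_alternatingGroup.2 (by decide)⟩, ?_⟩
  refine orderOf_eq_prime ?_ ?_
  · exact Subtype.ext (by decide)
  · exact fun h => absurd (congrArg Subtype.val h) (by decide)

theorem exists_odd {p : ℕ} (hp : p.Prime) (hp2 : p ≠ 2) :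
    ∃ x : alternatingGroup (Fin p), orderOf x = p := by
  obtain ⟨n, rfl⟩ : ∃ n, p = n + 2 := ⟨p - 2, by have := hp.two_le; omega⟩
  have hodd := hp.odd_of_ne_two hp2
  refine ⟨⟨finRotate (n + 2), Equiv.Perm.mem_alternatingGroup.2 ?_⟩, ?_⟩
  · rw [sign_finRotate, Even.neg_one_pow]
    obtain ⟨k, hk⟩ := hodd
    exact ⟨k, by omega⟩
  · rw [← Subgroup.orderOf_coe, isCycle_finRotate.orderOf, support_finRotate]
    simp

variable {G : Type*} [Group G] [Finite G] {p : ℕ} [Fact p.Prime]

/-- The kernel of a minimal cover of `A_{a+5}` has a noncentral `p`-element. -/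
theorem exists_noncentral (hG : Hyp p G) (f : G →* alternatingGroup (Fin (a + 5)))
    (hf : Function.Surjective f) {x : alternatingGroup (Fin a)} (hx : orderOf x = p) :
    ∃ z ∈ f.ker, PElt p z ∧ z ∉ Subgroup.center G :=
  exists_noncentral_kernel f hf (first x) (pElt_first hx) hG
    (first_not_central fun h => (Fact.out : p.Prime).ne_one (by rw [← hx, h, orderOf_one]))
    (not_solvable_lastFive a) (commute_first x)

theorem false_of_large (hG : Hyp p G) (f : G →* alternatingGroup (Fin (a + 5)))
    (hf : Function.Surjective f) (hp : ¬ p ∣ 60) {x : alternatingGroup (Fin a)}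
    (hx : orderOf x = p) : False :=
  false_of_coprime f hf (first x) (pElt_first hx) hG
    (first_not_central fun h => (Fact.out : p.Prime).ne_one (by rw [← hx, h, orderOf_one]))
    (not_solvable_lastFive a) (commute_first x) (by rwa [card_lastFive])

/-- A module for the symmetric group without vectors fixed by non-solvable subgroups. -/
theorem exists_noFix (hG : Hyp p G) (f : G →* alternatingGroup (Fin (a + 5)))
    (hf : Function.Surjective f) (hfr : f.ker ≤ frattini G) {x : alternatingGroup (Fin a)}
    (hx : orderOf x = p) :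
    ∃ (m : ℕ) (ρ : Equiv.Perm (Fin (a + 5)) →* Matrix (Fin m) (Fin m) (ZMod p)),
      0 < m ∧ Cert.NoFix ρ := by
  obtain ⟨m, ρ, hm, hρ⟩ := exists_module f hf hfr hG (exists_noncentral hG f hf hx)
  let τ : Equiv.Perm (Fin (a + 5)) := Equiv.swap ⟨0, by omega⟩ ⟨1, by omega⟩
  exact ⟨m + m, Extend.sym ρ (τ := τ) (Equiv.swap_mul_self _ _)
      (Equiv.Perm.sign_swap (by simp [Fin.ext_iff])), by omega,
    Extend.noFix_sym (fun H hH v hv => hρ H hH v hv) _ _⟩

end Cfsg.Agent.AltSections.Witness
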